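import Cfsg.Agent.Odc.A
import Cfsg.Agent.PLocal.RkC

/-! Odd operator groups: the minimal counterexample and the interfaces -/

set_option autoImplicit false

namespace CF.Odc
open Subgroup CF.BG
open scoped commutatorElement Pointwise

universe u v

variable {Γ : Type u} [Group Γ]

/-- `Ω₁(Z(T))` -/
abbrev ZZ (T : Subgroup Γ) : Subgroup Γ := Cfsg.omegaOneCenter 2 T
/-- `J(T)` -/
abbrev JJ (T : Subgroup Γ) : Subgroup Γ := Cfsg.thompsonSubgroupOf 2 T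
/-- the normal closure of `Ω₁(Z(T))` in `N_G(J(T))` -/
def WW (G T : Subgroup Γ) : Subgroup Γ := CF.Loc.ncl (ZZ T) (G ⊓ 𝐍 (JJ T))
/-- `N_G(W)` -/
def MM (G T : Subgroup Γ) : Subgroup Γ := G ⊓ 𝐍 (WW G T)

/-- the minimal counterexample with an invariant Sylow `2`-subgroup -/
structure MC (G A T : Subgroup Γ) : Prop where
  fp : Fp G A
  ns : ¬ Sol G
  simple : ∀ N, N ⊴ G → N = ⊥ ∨ N = G
  sol : ∀ H, H ≤ G → H ≠ G → A ≤ 𝐍 H → Sol H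
  syl : Syl 2 T G
  inv : A ≤ 𝐍 T
  ne : T ≠ ⊥

/-- the dihedral configuration in a `2`-group -/
structure Dh (T : Subgroup Γ) (z u u' g : Γ) : Prop where
  zT : z ∈ T
  uT : u ∈ T
  gT : g ∈ T
  z1 : z ≠ 1
  zz : z * z = 1
  uu : u * u = 1
  zu : z * u = u * z
  gz : g * z = z * g
  cj : u' = g * u * g⁻¹
  par : u * u' = z * (u' * u)
  h1 : ∀ s ∈ T, s * z = z * s → (s * u * s⁻¹ = u ∨ s * u * s⁻¹ = u * z) →
    s * u' * s⁻¹ = u' ∨ s * u' * s⁻¹ = u' * z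
  h3 : ∀ t ∈ T, t * z = z * t → ∀ a, a = t * u * t⁻¹ → (∀ s ∈ T, s * z = z * s →
    (s * u * s⁻¹ = u ∨ s * u * s⁻¹ = u * z) → s * a * s⁻¹ = a ∨ s * a * s⁻¹ = a * z) →
      a = u ∨ a = u * z ∨ a = u' ∨ a = u' * z
  ns : ∀ y ∈ T, y * z = z * y → y * u = u * y → y * y ≠ z

/-- the module facts for `W` -/
structure Wh (T W A : Subgroup Γ) : Prop where
  nf : ∀ E ≤ T, Abelem 2 E → (𝐂 E).relIndex W ≤ (𝐂 W).relIndex E → E ≤ 𝐂 W
  f1 : ∀ E ≤ T, Abelem 2 E → (𝐂 E).relIndex W ≤ 2 * (𝐂 W).relIndex E → (𝐂 W).relIndex E ≤ 2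
  t4 : ∀ E ≤ T, A ≤ 𝐍 E → ⁅E, E⁆ ≤ 𝐂 W → (∀ a ∈ E, a * a ∈ 𝐂 W) → ∀ t ∈ E, (𝐂₁ t).relIndex W ≠ 4

/-- the minimal counterexample together with the results on solvable invariant subgroups -/
structure MX (G A T : Subgroup Γ) : Prop extends MC G A T where
  nf : ∀ E ≤ T, Abelem 2 E → (𝐂 E).relIndex (WW G T) ≤ (𝐂 (WW G T)).relIndex E → E ≤ 𝐂 (WW G T)
  fact : ∀ H, T ≤ H → H ≤ G → H ≠ G → A ≤ 𝐍 H → H ≤ 𝐎 {2}ᶜ H ⊔ (H ⊓ 𝐍 (WW G T))
  lemS : ∀ x ∈ MM G T, Odd (orderOf x) → 2 < ♯⁅WW G T, zpowers x⁆ →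
    ¬ ∀ a ∈ ⁅WW G T, zpowers x⁆, ∀ b ∈ ⁅WW G T, zpowers x⁆, a ≠ 1 → b ≠ 1 →
      ∃ k : ℕ, x ^ k * a * (x ^ k)⁻¹ = b
  dih : ∀ z u u' g, ¬ Dh T z u u' g

/-- `W` is strongly closed -/
def SCl (G T : Subgroup Γ) : Prop := ∀ w ∈ WW G T, ∀ g ∈ G, g * w * g⁻¹ ∈ T → g * w * g⁻¹ ∈ WW G T

variable {G A T H : Subgroup Γ}

theorem Z_le_W (G T : Subgroup Γ) : ZZ T ≤ WW G T := Loc.le_ncl _ _

theorem normJ_le (G T : Subgroup Γ) : G ⊓ 𝐍 (JJ T) ≤ 𝐍 (WW G T) := Loc.le_normalizer_ncl _ _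

theorem norm_le_normW (h : H ≤ 𝐍 G) (k : H ≤ 𝐍 T) : H ≤ 𝐍 (WW G T) :=
  Loc.le_normalizer_ncl' (k.trans (Loc.normalizer_le_normalizer_omegaOneCenter 2 T))
    (norm_inf h (k.trans ((PLocal.normalizer_le_normalizer_thompson 2 T).trans
      (norm_le_norm_norm _))))

theorem normT_le_M (G T : Subgroup Γ) : G ⊓ 𝐍 T ≤ MM G T :=
  le_inf inf_le_left (norm_le_normW (norm_of_le inf_le_left) inf_le_right)

theorem normJ_le_M (G T : Subgroup Γ) : G ⊓ 𝐍 (JJ T) ≤ MM G T := le_inf inf_le_left (normJ_le G T)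

theorem M_le (G T : Subgroup Γ) : MM G T ≤ G := inf_le_left

theorem M_norm (G T : Subgroup Γ) : MM G T ≤ 𝐍 (WW G T) := inf_le_right

theorem W_eq (G T : Subgroup Γ) : WW G T = Loc.ncl (ZZ T) (MM G T) :=
  le_antisymm (Loc.ncl_mono le_rfl (normJ_le_M G T)) (Loc.ncl_le (Z_le_W G T) (M_norm G T))

variable [Finite Γ]

theorem W_le_OmJ (G T : Subgroup Γ) : WW G T ≤ ZZ (JJ T) :=
  Loc.ncl_le (FF.le_omegaJ (Loc.isElemAb_omegaOneCenter 2 T) (Loc.omegaOneCenter_le 2 T)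
    ((Loc.omegaOneCenter_le_centralizer 2 T).trans (cent_anti (PLocal.thompson_le 2 T))))
    (inf_le_right.trans (Loc.normalizer_le_normalizer_omegaOneCenter 2 _))

theorem W_le_J (G T : Subgroup Γ) : WW G T ≤ JJ T := (W_le_OmJ G T).trans (Loc.omegaOneCenter_le 2 _)

theorem W_le (G T : Subgroup Γ) : WW G T ≤ T := (W_le_J G T).trans (PLocal.thompson_le 2 T)

theorem W_cent_J (G T : Subgroup Γ) : WW G T ≤ 𝐂 (JJ T) :=
  (W_le_OmJ G T).trans (Loc.omegaOneCenter_le_centralizer 2 _)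

theorem W_ea (G T : Subgroup Γ) : Cfsg.IsElementaryAbelian 2 (WW G T) :=
  Loc.isElemAb_of_le (Loc.isElemAb_omegaOneCenter 2 _) (W_le_OmJ G T)

theorem W_abelem (G T : Subgroup Γ) : Abelem 2 (WW G T) := .of_isEA Nat.prime_two (W_ea G T)

namespace MC
variable (h : MC G A T)
include h

theorem pT : IsPGroup 2 T := h.syl.pi.isPGroup

theorem Z_ne : ZZ T ≠ ⊥ := Loc.omegaOneCenter_ne_bot h.pT h.ne

theorem W_ne : WW G T ≠ ⊥ := ne_bot_mono h.Z_ne (Z_le_W G T)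

omit [Finite Γ] in
theorem T_le_M : T ≤ MM G T := (le_inf h.syl.le (le_norm_self T)).trans (normT_le_M G T)

omit [Finite Γ] in
theorem normW : A ≤ 𝐍 (WW G T) := norm_le_normW h.fp.norm h.inv

omit [Finite Γ] in
theorem normM : A ≤ 𝐍 (MM G T) := norm_inf h.fp.norm (h.normW.trans (norm_le_norm_norm _))

/-- the normalizer of a nontrivial `2`-subgroup is proper -/
theorem norm_ne {Y : Subgroup Γ} (hY : Y ≤ G) (k : PiGrp {2} Y) (h1 : Y ≠ ⊥) : G ⊓ 𝐍 Y ≠ G :=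
  fun e => (h.simple Y ⟨hY, e.ge.trans inf_le_right⟩).elim h1 fun e' => h.ns (e' ▸ k.sol)

theorem M_ne : MM G T ≠ G :=
  h.norm_ne ((W_le G T).trans h.syl.le) (W_abelem G T).pi h.W_ne

theorem M_sol : Sol (MM G T) := h.sol _ (M_le G T) h.M_ne h.normM

theorem fpM : Fp (MM G T) A := h.fp.mono (M_le G T) h.normM

theorem fpW : Nf (WW G T) (MM G T) A := h.fpM.toNf ((W_le G T).trans h.T_le_M) h.normW

theorem sylM : Syl 2 T (MM G T) := h.syl.of_le h.T_le_M (M_le G T)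

/-- `W` is `2`-reduced for `M` -/
theorem red {D : Subgroup Γ} (hD : D ⊴ MM G T) (k : PiNat {2} ((𝐂 (WW G T)).relIndex D)) :
    D ≤ 𝐂 (WW G T) := by
  have s : Syl 2 (T ⊓ D) D := h.sylM.inf_normal hD
  have n : D ≤ 𝐍 (𝐂 (WW G T)) := norm_cent (hD.le.trans (M_norm G T))
  have e : D ≤ (D ⊓ 𝐂 (WW G T)) ⊔ (T ⊓ D) := by
    have h1 : (D ⊓ 𝐂 (WW G T)) ⊔ (T ⊓ D) ≤ D := sup_le inf_le_left inf_le_right
    have a : PiNat {2}ᶜ (((D ⊓ 𝐂 (WW G T)) ⊔ (T ⊓ D)).relIndex D) := s.idx_of_le le_sup_right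
    have b : PiNat {2} (((D ⊓ 𝐂 (WW G T)) ⊔ (T ⊓ D)).relIndex D) := by
      refine k.dvd ?_
      rw [← inf_relIndex_right (𝐂 (WW G T)) D, inf_comm]
      exact relIndex_dvd_left D le_sup_left
    exact relIndex_eq_one.mp (b.eq_one a)
  have c : ZZ T ≤ 𝐂 D := by
    refine cent_symm (e.trans (sup_le (inf_le_right.trans (cent_anti (Z_le_W G T))) ?_))
    exact inf_le_left.trans (Loc.le_centralizer_omegaOneCenter 2 T)
  rw [W_eq]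
  exact cent_symm (Loc.ncl_le_centralizer c hD.norm)

end MC

end CF.Odc
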