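import Cfsg.Agent.Odc.D3

/-! Odd operator groups: the dihedral configuration does not occur -/

set_option autoImplicit false

namespace CF.Odc
open Subgroup CF.BG
open scoped commutatorElement Pointwise

namespace Dd

universe u
variable {Γ : Type u} [Group Γ] {G A T Y : Subgroup Γ} {z a c n s u u' g : Γ}

/-- the class of `u` under `Y` -/
def cls (Y : Subgroup Γ) (u : Γ) : Set Γ := {a | ∃ y ∈ Y, a = y * u * y⁻¹}

/-- the exclusion property relative to `u` -/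
def XX (Y : Subgroup Γ) (z u : Γ) : Prop :=
  ∀ s ∈ Y, s * u * s⁻¹ * u = u * (s * u * s⁻¹) → s * u * s⁻¹ = u ∨ s * u * s⁻¹ = u * z

theorem cj_mul (e : s * z = z * s) (a : Γ) : s * (a * z) * s⁻¹ = s * a * s⁻¹ * z := by
  calc s * (a * z) * s⁻¹ = s * a * s⁻¹ * (s * z * s⁻¹) := by group
    _ = _ := by rw [cj_iff.mpr e]

theorem XX.cls (h : XX Y z u) (hY : Y ≤ 𝐂₁ z) :
    ∀ a ∈ cls Y u, ∀ c ∈ cls Y u, a * c = c * a → c = a ∨ c = a * z := by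
  rintro _ ⟨x, hx, rfl⟩ _ ⟨y, hy, rfl⟩ e
  have e1 : y * u * y⁻¹ = x * (x⁻¹ * y * u * (x⁻¹ * y)⁻¹) * x⁻¹ := by group
  rcases h _ (mul_mem (inv_mem hx) hy) (by
    calc x⁻¹ * y * u * (x⁻¹ * y)⁻¹ * u = x⁻¹ * (y * u * y⁻¹ * (x * u * x⁻¹)) * x := by group
      _ = _ := by rw [← e]; group) with h1 | h1
  · exact .inl (by rw [e1, h1])
  · exact .inr (by rw [e1, h1, cj_mul (mem_cent1.mp (hY hx))])

theorem cls_cl (hs : s ∈ Y) : ∀ a ∈ cls Y u, s * a * s⁻¹ ∈ cls Y u := by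
  rintro _ ⟨y, hy, rfl⟩
  exact ⟨s * y, mul_mem hs hy, by group⟩

theorem cls_sub (hu : u ∈ Y) : ∀ a ∈ cls Y u, a ∈ Y := by
  rintro _ ⟨y, hy, rfl⟩
  exact mul_mem (mul_mem hy hu) (inv_mem hy)

theorem cls_aa (hu : u * u = 1) : ∀ a ∈ cls Y u, a * a = 1 := by
  rintro _ ⟨y, -, rfl⟩
  exact cj_sq hu y

/-- the stabilizer of `{u, u z}` in `C_T(z)` -/
def SS (T : Subgroup Γ) (z u : Γ) (zz : z * z = 1) : Subgroup Γ where
  carrier := {s | s ∈ T ∧ s * z = z * s ∧ (s * u * s⁻¹ = u ∨ s * u * s⁻¹ = u * z)}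
  one_mem' := ⟨one_mem _, by simp, by simp⟩
  mul_mem' := by
    rintro a b ⟨a1, a2, a3⟩ ⟨b1, b2, b3⟩
    refine ⟨mul_mem a1 b1, Commute.mul_left a2 b2, ?_⟩
    rw [show a * b * u * (a * b)⁻¹ = a * (b * u * b⁻¹) * a⁻¹ by group]
    rcases b3 with e | e
    · rwa [e]
    · rw [e, cj_mul a2]
      rcases a3 with e | e
      · exact .inr (by rw [e])
      · exact .inl (by rw [e, mul_assoc, zz, mul_one])
  inv_mem' := by
    rintro a ⟨a1, a2, a3⟩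
    have a4 : a⁻¹ * z = z * a⁻¹ := Commute.inv_left a2
    refine ⟨inv_mem a1, a4, ?_⟩
    rcases a3 with e | e
    · exact .inl (by nth_rewrite 1 [← e]; group)
    · refine .inr ?_
      have : u = a * u * a⁻¹ * z := by rw [e, mul_assoc, zz, mul_one]
      nth_rewrite 1 [this]
      rw [cj_mul a4]; group

section
variable (h : Dh T z u u' g) (p2 : ∀ t ∈ T, ∃ k : ℕ, t ^ (2 ^ k) = 1)
include h p2

theorem step (hS : SS T z u h.zz ≤ Y) (hY : Y ≤ T ⊓ 𝐂₁ z) (hX : XX Y z u) :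
    XX ((T ⊓ 𝐂₁ z) ⊓ 𝐍 Y) z u := by
  intro n hn0 e
  have nT : n ∈ T := hn0.1.1
  have nY : n ∈ 𝐍 Y := hn0.2
  have nz : n * z = z * n := mem_cent1.mp hn0.1.2
  have uz := h.zu.symm
  have u'u : u' * u' = 1 := h.cj ▸ cj_sq h.uu g
  have u'T : u' ∈ T := h.cj ▸ mul_mem (mul_mem h.gT h.uT) (inv_mem h.gT)
  have u'z : u' * z = z * u' :=
    h.cj ▸ Commute.mul_left (Commute.mul_left h.gz uz) (Commute.inv_left h.gz)
  have nc : u' * u ≠ u * u' := fun e => h.z1 (by simpa [← e] using h.par.symm)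
  have aa := cj_sq h.uu n
  have aT := mul_mem (mul_mem nT h.uT) (inv_mem nT)
  have az : n * u * n⁻¹ * z = z * (n * u * n⁻¹) :=
    Commute.mul_left (Commute.mul_left nz uz) (Commute.inv_left nz)
  generalize ha : n * u * n⁻¹ = a at e aa aT az
  by_cases hn : ∀ s ∈ T, s * z = z * s → (s * u * s⁻¹ = u ∨ s * u * s⁻¹ = u * z) →
      s * a * s⁻¹ = a ∨ s * a * s⁻¹ = a * z
  · rcases h.h3 n nT nz a ha.symm hn with h1 | h1 | h1 | h1
    · exact .inl h1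
    · exact .inr h1
    · exact absurd (h1 ▸ e) nc
    · refine absurd ?_ nc
      rw [h1, mul_assoc, h.zu, ← mul_assoc, ← mul_assoc] at e
      exact mul_right_cancel e
  exfalso
  have u'a : u' * a * u'⁻¹ = a ∨ u' * a * u'⁻¹ = a * z := by
    rcases h.h1 a aT az (.inl (cj_iff.mpr e)) with h1 | h1
    · exact .inl (cj_iff.mpr (cj_iff.mp h1).symm)
    · refine .inr ?_
      rw [mul_inv_eq_iff_eq_mul] at h1
      rw [inv_sq u'u, mul_assoc, h1, ← mul_assoc, ← mul_assoc, u'u, one_mul, az]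
  have u'c : u' * u * u'⁻¹ = u * z := by
    rw [mul_inv_eq_iff_eq_mul, uz, mul_assoc, h.par, ← mul_assoc, h.zz, one_mul]
  obtain ⟨b, bT, bz, bu, ba⟩ : ∃ b ∈ T, b * z = z * b ∧ b * u * b⁻¹ = u ∧
      ¬ (b * a * b⁻¹ = a ∨ b * a * b⁻¹ = a * z) := by
    push Not at hn
    obtain ⟨s, sT, sz, su | su, sa⟩ := hn
    · exact ⟨s, sT, sz, su, not_or.mpr sa⟩
    · have e1 : ∀ x, s * u' * x * (s * u')⁻¹ = s * (u' * x * u'⁻¹) * s⁻¹ := fun x => by group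
      refine ⟨s * u', mul_mem sT u'T, Commute.mul_left sz u'z, ?_, ?_⟩
      · rw [e1, u'c, cj_mul sz, su, mul_assoc, h.zz, mul_one]
      · rw [e1]
        rcases u'a with h1 | h1
        · rw [h1]; exact not_or.mpr sa
        · rw [h1, cj_mul sz, mul_left_inj, ← eq_mul_inv_iff_mul_eq, inv_sq h.zz]
          exact not_or.mpr sa.symm
  have uY : u ∈ Y := hS ⟨h.uT, uz, .inl (by group)⟩
  have sY : n⁻¹ * b * n ∈ Y := conj_mem_of_norm' nY (hS ⟨bT, bz, .inl bu⟩)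
  have c1 : u ∈ cls Y u := ⟨1, one_mem _, by group⟩
  have c2 := cls_cl sY u c1
  obtain ⟨k, hk⟩ := p2 _ (hY (mul_mem uY (cls_sub uY _ c2))).1
  have e1 : a * (b * a * b⁻¹) = n * (u * (n⁻¹ * b * n * u * (n⁻¹ * b * n)⁻¹)) * n⁻¹ := by
    rw [← ha]; group
  rcases dich (cls_aa h.uu) (fun a ha c hc => cls_cl (cls_sub uY c hc) a ha)
    (hX.cls (hY.trans inf_le_right)) k u c1 _ c2 hk with h1 | h1 | ⟨m, h1⟩
  · rw [h1, mul_one, mul_inv_cancel, mul_eq_one_iff_inv_eq, inv_sq aa] at e1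
    exact ba (.inl e1.symm)
  · rw [h1, cj_iff.mpr nz, ← eq_inv_mul_iff_mul_eq, inv_sq aa] at e1
    exact ba (.inr e1)
  · have bu' := cj_iff.mp bu
    refine h.ns ((a * (b * a * b⁻¹)) ^ m) (pow_mem (mul_mem aT (mul_mem (mul_mem bT aT)
      (inv_mem bT))) m) (Commute.pow_left (Commute.mul_left az (Commute.mul_left
        (Commute.mul_left bz az) (Commute.inv_left bz))) m)
      (Commute.pow_left (Commute.mul_left e (Commute.mul_left
        (Commute.mul_left bu' e) (Commute.inv_left bu'))) m) ?_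
    rw [e1, conj_pow, ← cj_iff.mpr nz, ← h1]; group

theorem xx [Finite Γ] (k : Nil T) : XX (T ⊓ 𝐂₁ z) z u := by
  obtain ⟨Y, -, ⟨y1, y2, y3⟩, y4⟩ := exists_maximal
    (P := fun Y => SS T z u h.zz ≤ Y ∧ Y ≤ T ⊓ 𝐂₁ z ∧ XX Y z u) (H := SS T z u h.zz)
    ⟨le_rfl, fun s hs => ⟨hs.1, mem_cent1.mpr hs.2.1⟩, fun s hs _ => hs.2.2⟩
  have l : Y ≤ (T ⊓ 𝐂₁ z) ⊓ 𝐍 Y := le_inf y2 (le_norm_self Y)
  have e := y4 _ ⟨y1.trans l, inf_le_left, step h p2 y1 y2 y3⟩ l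
  rwa [← (k.mono inf_le_left).eq_of_inf_norm_le y2 e.le]

theorem fc [Finite Γ] (k : Nil T) : Fc T z (cls (T ⊓ 𝐂₁ z) u) where
  p2 := p2
  zT := h.zT
  z1 := h.z1
  zz := h.zz
  sub := fun a ha => (cls_sub (mem_inf.mpr ⟨h.uT, mem_cent1.mpr h.zu.symm⟩) a ha).1
  aa := cls_aa h.uu
  az := fun a ha => mem_cent1.mp (cls_sub (mem_inf.mpr ⟨h.uT, mem_cent1.mpr h.zu.symm⟩) a ha).2
  cl := fun s hs e => cls_cl ⟨hs, mem_cent1.mpr e⟩
  X := (xx h p2 k).cls inf_le_right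
  ns := by
    rintro _ ⟨x, ⟨xT, xz⟩, rfl⟩ y yT yz e e'
    replace xz : x * z = z * x := mem_cent1.mp xz
    replace xT : x ∈ T := xT
    refine h.ns (x⁻¹ * y * x) (mul_mem (mul_mem (inv_mem xT) yT) xT)
      (Commute.mul_left (Commute.mul_left (Commute.inv_left xz) yz) xz) ?_ ?_
    · calc x⁻¹ * y * x * u = x⁻¹ * (y * (x * u * x⁻¹)) * x := by group
        _ = _ := by rw [e]; group
    · calc x⁻¹ * y * x * (x⁻¹ * y * x) = x⁻¹ * (y * y * x) := by group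
        _ = z := by rw [e', ← xz]; group

end

end Dd

open Dd in
/-- the dihedral configuration does not occur -/
theorem dih_false {Γ : Type*} [Group Γ] [Finite Γ] {G A T : Subgroup Γ} (h : Fp G A) (hT : T ≤ G)
    (k : PiGrp {2} T) (n : A ≤ 𝐍 T) {z u u' g : Γ} : ¬ Dh T z u u' g := fun d => by
  have p2 : ∀ t ∈ T, ∃ k : ℕ, t ^ (2 ^ k) = 1 := fun t ht => by
    obtain ⟨m, hm⟩ := k.isPGroup ⟨t, ht⟩
    exact ⟨m, congrArg Subtype.val hm⟩
  exact fr_false h hT n ((fc d p2 k.nil).fr ⟨1, one_mem _, by group⟩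
    ⟨g, ⟨d.gT, mem_cent1.mpr d.gz⟩, d.cj⟩ d.par)

end CF.Odc
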