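import Cfsg.Agent.Odc.H1

/-! Factorization of invariant solvable subgroups, part 2 -/

set_option autoImplicit false

namespace CF.Odc
open Subgroup CF.BG
open scoped commutatorElement Pointwise

universe u
variable {Γ : Type u} [Group Γ] [Finite Γ] {A B D E E0 H K L N O P Q R T U V W X Y : Subgroup Γ}
  {a b c g t x y : Γ}

theorem Ly.nE (l : Ly H W E E0 t y) : y ∈ 𝐍 E0 :=
  centMod_le_norm _ _ (mem_centMod_of le_rfl fun u hu => l.q (l.cm u hu))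

omit [Finite Γ] in
theorem cm_mem_inf (ht : t ∈ W) (n : t ∈ 𝐍 Q) (hx : x ∈ Q) (m : x ∈ 𝐍 W) : ⁅t, x⁆ ∈ W ⊓ Q := by
  refine mem_inf.2 ⟨?_, mul_mem (conj_mem_of_norm n hx) (inv_mem hx)⟩
  have := mul_mem ht (conj_mem_of_norm m (inv_mem ht))
  simpa only [commutatorElement_def, mul_assoc] using this

omit [Finite Γ] in
theorem inv_inv' (i : a * y * a⁻¹ = y⁻¹) : a * y⁻¹ * a⁻¹ = y⁻¹⁻¹ :=
  calc _ = (a * y * a⁻¹)⁻¹ := by group
    _ = _ := by rw [i]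

namespace Cy
variable (h : Cy H A T W)
include h

theorem W_le : W ≤ 𝐎 {2} H := by
  intro t ht
  by_contra nt
  have hN : H ≤ 𝐍 (𝐎 {2} H) := (O_normal _ _).norm
  have wH := h.wT.trans h.syl.le
  obtain ⟨E0, y, l⟩ := h.exLy le_sup_left (sup_le h.QT h.wT)
    (by rw [qt_sup_left (wH.trans hN)]; exact h.ab.qt _) (mem_sup_right ht) nt (sq1 h.ab ht)
  set Q := 𝐎 {2} H with hQ
  have eT : E0 ≤ T := l.le.trans (sup_le h.QT h.wT)
  have cE : cj y E0 = E0 := cj_of_norm l.nE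
  have cQ : cj y Q = Q := cj_of_norm (hN l.yH)
  have i : (W ⊓ E0).relIndex W ≤ 2 :=
    (ri_anti' (X := E0) (inf_comm _ _).le).trans ((ri_mono le_sup_right E0).trans l.idx.le)
  obtain ⟨g1, g2⟩ := wn_two h.wn (h.wn.cj y) (h.ab.le inf_le_left) ((h.ab.le inf_le_left).cj y)
    inf_le_left (cj_mono y inf_le_left) i (by rwa [relIndex_cj])
    (inf_le_right.trans (cE.ge.trans (cj_mono y eT))) ((cj_mono y inf_le_right).trans (cE.le.trans eT))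
  have t' : y * t * y⁻¹ ∈ cj y W := conj_mem_cj.2 ht
  have c1 := (ri_anti' (Y := 𝐂₁ y) (V := W ⊓ E0) fun x hx => cc_le l.odd l.inv
    ⟨cent_le_cent1 ht (h.ab.abel hx.2.1), cent_le_cent1 t' hx.1⟩).trans g1
  have c2 := (ri_anti' (Y := 𝐂₁ y) fun x hx => cc_le l.odd l.inv
    ⟨cent_le_cent1 ht hx.1, cent_le_cent1 t' ((h.ab.cj y).abel (cj_mono y inf_le_left hx.2))⟩).trans g2
  have n0 : E0 ≤ 𝐍 (cj y (W ⊓ E0)) :=
    cE.ge.trans (cj_norm_iff.2 (norm_inf (eT.trans h.tW) (le_norm_self E0)))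
  have c3 := ri_sup_le (.inl ((inf_le_right (a := W)).trans n0)) (𝐂₁ y)
  have m : y ∈ centMod Q ((W ⊓ Q) ⊔ (cj y W ⊓ Q)) := mem_of_inv l.odd l.inv
    (mem_centMod_of (sup_le inf_le_right inf_le_right) fun u hu =>
      mem_sup_left (cm_mem_inf ht (hN (wH ht)) hu (h.tW (h.QT hu))))
    (mem_centMod_of (sup_le inf_le_right inf_le_right) fun u hu =>
      mem_sup_right (cm_mem_inf t' (hN (mul_mem (mul_mem l.yH (wH ht)) (inv_mem l.yH))) hu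
        ((cQ.ge.trans (cj_norm_iff.2 (h.QT.trans h.tW))) hu)))
  have c4 : ⁅Q, zpowers y⁆ ≤ (W ⊓ E0) ⊔ cj y (W ⊓ E0) := by
    rw [commutator_comm]
    refine (le_centMod.1 (zpowers_le.2 m)).2.trans (sup_le_sup (inf_le_inf_left W l.q) ?_)
    rw [cj_inf, cE]; exact inf_le_inf_left _ l.q
  have yQ := zpowers_le.2 (hN l.yH)
  have c5 := ri_sup_le (U := ⁅Q, zpowers y⁆) (V := Q ⊓ 𝐂 (zpowers y))
    (.inr (inf_le_left.trans (norm_comm_left _ _))) (𝐂₁ y)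
  rw [comm_sup_inf_cent yQ (odd_cop l.odd (O_pi _ _)) (.inl (abel_zpowers y).sol), cent_zpowers,
    relIndex_eq_one.2 (inf_le_right (a := Q)), mul_one] at c5
  have c6 := ri_mono c4 (𝐂₁ y)
  exact l.nW (h.tW (h.QT (h.cq ⟨l.yH, s4 h.fp h.sol (O_le _ _) h.aQ (O_pi _ _) hN l.yH
    l.odd (by nlinarith)⟩)))

theorem cjW (hg : g ∈ H) : cj g W ≤ 𝐎 {2} H := cj_le_of_norm ((O_normal _ _).norm hg) h.W_le

theorem cjT (hg : g ∈ H) : 𝐎 {2} H ≤ cj g T :=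
  (cj_of_norm ((O_normal _ _).norm hg)).ge.trans (cj_mono g h.QT)

theorem cjW_cent (hg : g ∈ H) : cj g W ≤ 𝐂 W :=
  (le_total _ _).elim (h.wn.nf _ ((h.cjW hg).trans h.QT) (h.ab.cj g))
    fun k => cent_symm ((h.wn.cj g).nf _ (h.W_le.trans (h.cjT hg)) h.ab k)

theorem VQ : Loc.ncl W H ≤ 𝐎 {2} H := Loc.ncl_le h.W_le (O_normal _ _).norm

theorem V_ab : Abelem 2 (Loc.ncl W H) := by
  have n := Loc.le_normalizer_ncl W H
  have a : Abel (Loc.ncl W H) := Loc.ncl_le_centralizer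
    (cent_symm (Loc.ncl_le_iff.2 fun g hg => h.cjW_cent hg)) n
  exact (a.abelem_Om Nat.prime_two).le (Loc.ncl_le (h.ab.le_Om (Loc.le_ncl W H)) (le_norm_Om 2 n))

theorem nJQ : ∃ A0 ∈ PLocal.maxAb 2 T, ¬ A0 ≤ 𝐎 {2} H := by
  by_contra k
  push Not at k
  refine h.ne ((le_inf le_rfl ?_).trans h.nJ)
  rw [JJ, ← PLocal.thompson_eq_of_le (PLocal.thompson_le_iff.2 k) h.QT]
  exact (O_normal _ _).norm.trans (PLocal.normalizer_le_normalizer_thompson 2 _)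

theorem key : ∃ E E0 B a y, Ly H W E E0 a y ∧ E ≤ T ∧ a ∈ E ∧ a * a = 1 ∧ B ≤ E0 ∧ Abelem 2 B ∧
    B ≤ 𝐂₁ a ∧ (𝐂 (cj y W)).relIndex B ≤ 2 ∧
    (𝐂 (cj y W) ⊓ B).relIndex (Loc.ncl W H) = 2 * (𝐂 (cj y W)).relIndex B := by
  obtain ⟨A1, k1, k2⟩ := h.nJQ
  obtain ⟨_, -, ⟨A0, mA, nA, rfl⟩, mn⟩ := exists_minimal
    (P := fun X => ∃ A0 ∈ PLocal.maxAb 2 T, ¬ A0 ≤ 𝐎 {2} H ∧ X = 𝐎 {2} H ⊔ A0) ⟨A1, k1, k2, rfl⟩
  have hN : H ≤ 𝐍 (𝐎 {2} H) := (O_normal _ _).norm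
  have eA : Abelem 2 A0 := .of_isEA Nat.prime_two mA.2.1
  obtain ⟨a, ha, na⟩ := SetLike.not_le_iff_exists.1 nA
  have eT := sup_le h.QT mA.1
  obtain ⟨E0, y, l⟩ := h.exLy le_sup_left eT
    (by rw [qt_sup_left ((mA.1.trans h.syl.le).trans hN)]; exact eA.qt _) (mem_sup_right ha) na
    (sq1 eA ha)
  have eB : Abelem 2 (E0 ⊓ A0) := eA.le inf_le_right
  have aC : a ∈ 𝐂 W := h.jW (PLocal.le_thompson mA ha)
  have bT : E0 ⊓ A0 ≤ cj y T :=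
    inf_le_left.trans ((cj_of_norm l.nE).ge.trans (cj_mono y (l.le.trans eT)))
  have w' := h.wn.cj y
  have wQ := h.cjW l.yH
  have e' := h.ab.cj y
  have wV : cj y W ≤ Loc.ncl W H := Loc.cj_le_ncl l.yH
  have nw : ¬ cj y W ≤ 𝐂₁ a := fun k => l.nW (inv_mem_iff.1 (cent_le_norm W (mem_of_inv
    (by rw [orderOf_inv]; exact l.odd) (inv_inv' l.inv) aC (by
      have := le_cent1_iff.1 k
      rwa [← cj_cent, mem_cj, ← inv_inv y, inv_inv y⁻¹] at this))))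
  generalize hW : cj y W = W' at *
  have i0 : E0.relIndex A0 = 2 := by
    have a1 := (ri_mono le_sup_right E0).trans l.idx.le
    have a2 := relIndex_pos E0 A0
    have a3 : E0.relIndex A0 ≠ 1 := fun e => l.nt (relIndex_eq_one.1 e ha)
    omega
  have c0 := card_inf_mul_relIndex E0 A0
  have c1 := card_inf_mul_relIndex (𝐂 W') (E0 ⊓ A0)
  have aB : E0 ⊓ A0 ≤ 𝐂₁ a := inf_le_right.trans (eA.abel.trans (cent_le_cent1 ha))
  have bE : E0 ⊓ A0 ≤ E0 := inf_le_left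
  generalize E0 ⊓ A0 = B at *
  have eD : Abelem 2 ((𝐂 W' ⊓ B) ⊔ W') := (eB.le inf_le_right).sup e' inf_le_left
  have dE : (𝐂 W' ⊓ B) ⊔ W' ≤ E0 := sup_le (inf_le_right.trans bE) (wQ.trans l.q)
  have dT := dE.trans (l.le.trans eT)
  have c2 := card_mul_relIndex (le_sup_left : 𝐂 W' ⊓ B ≤ (𝐂 W' ⊓ B) ⊔ W')
  have c2' := relIndex_sup_norm' (K := 𝐂 W' ⊓ B) (H := W') (.inr (norm_of_cent inf_le_left))
  have c3 : ♯((𝐂 W' ⊓ B) ⊔ W') ≤ ♯A0 := mA.2.2 _ dT eD.isEA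
  have p := card_pos' (𝐂 W' ⊓ B)
  have u1 : (𝐂 W' ⊓ B).relIndex W' ≤ 2 * (𝐂 W').relIndex B :=
    Nat.le_of_mul_le_mul_left (by rw [← c2', c2]; refine c3.trans ?_; rw [← c0, ← c1, i0]; linarith) p
  have u2 := ri_anti (X := 𝐂 W' ⊓ B) (inf_le_right.trans eB.abel) W'
  have r2 := w'.f1 B bT eB (u2.trans u1)
  have u3 : (𝐂 W' ⊓ B).relIndex W' = 2 * (𝐂 W').relIndex B := by
    have a1 := relIndex_pos (𝐂 W') B
    have a2 := relIndex_pos (𝐂 W' ⊓ B) W'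
    have a3 : (𝐂 W' ⊓ B).relIndex W' ≠ 1 := fun e =>
      nw ((relIndex_eq_one.1 e).trans (inf_le_right.trans aB))
    have a4 := ri_two e'.pi (𝐂 W' ⊓ B)
    by_cases e : (𝐂 W').relIndex B = 1
    · omega
    · have := mt (w'.nf B bT eB) (mt relIndex_eq_one.2 e)
      omega
  have mD := PLocal.mem_maxAb_of_card_le mA dT eD.isEA
    (by change ♯A0 ≤ ♯((𝐂 W' ⊓ B) ⊔ W'); rw [← c2, c2', u3, ← c0, ← c1, i0]; linarith)
  have dQ : (𝐂 W' ⊓ B) ⊔ W' ≤ 𝐎 {2} H := by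
    by_contra k
    exact l.nt (sup_le l.q dE ((mn _ ⟨_, mD, k, rfl⟩ ((sup_le l.q dE).trans l.le)).ge
      (mem_sup_right ha)))
  have vD : Loc.ncl W H ≤ (𝐂 W' ⊓ B) ⊔ W' := by
    refine PLocal.le_of_le_centralizer_maxAb mD (h.VQ.trans h.QT) (Loc.ncl_le_iff.2 fun g hg => ?_)
      h.V_ab.pow
    have := (PLocal.le_thompson (PLocal.mem_maxAb_of_mem_of_le mD dQ h.QT (PLocal.conj_mem_maxAb
      (PLocal.mem_maxAb_of_le mD dQ h.QT) (hN (inv_mem hg))))).trans h.jW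
    refine cent_symm (K := cj g W) ?_
    rw [← cj_cent]; exact le_cj_iff.2 this
  refine ⟨_, E0, B, a, y, l, eT, mem_sup_right ha, sq1 eA ha, bE, eB, aB, hW ▸ r2, ?_⟩
  rw [hW, ← u3, ← c2', ← le_antisymm (sup_le le_sup_left vD) (sup_le_sup_left wV _),
    relIndex_sup_norm' (K := 𝐂 W' ⊓ B) (.inl (vD.trans (eD.abel.le_norm le_sup_left)))]

theorem not_cm (hy : y ∈ H) (n : y ∉ 𝐍 W) :
    ¬ ⁅Loc.ncl W H, zpowers y⁆ ≤ ⁅Loc.ncl W H, 𝐎 {2} H⁆ := fun k => by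
  have hV := Loc.le_normalizer_ncl W H
  have aV := Loc.le_normalizer_ncl' h.aW h.fp.norm
  have h2 := norm_commutator hV (O_normal {2} H).norm
  have a2 := norm_commutator aV h.aQ
  have wV := Loc.le_ncl W H
  have vQ := h.VQ
  have qW := h.QT.trans h.tW
  have l2 : ⁅Loc.ncl W H, 𝐎 {2} H⁆ ≤ Loc.ncl W H := comm_le_left ((O_le _ _).trans hV)
  have e := (h.dich (normalIn_inf_left (norm_centMod hV h2))
    (norm_inf h.fp.norm (norm_centMod aV a2))).resolve_right fun z => n (z ⟨hy, zpowers_le.1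
      (le_centMod.2 ⟨zpowers_le.2 (h2 hy), by rwa [commutator_comm]⟩)⟩)
  have v : Loc.ncl W H ≤ W ⊔ ⁅Loc.ncl W H, 𝐎 {2} H⁆ := Loc.ncl_le le_sup_left (e.ge.trans (sup_le
    (norm_of_comm_le' (((commutator_mono inf_le_right (sup_le wV l2)).trans
      (comm_centMod_le _ _)).trans le_sup_right)) (norm_sup h.tW (h.syl.le.trans h2))))
  rw [← qt_le_qt_iff (vQ.trans qW) ((l2.trans vQ).trans qW), qt_comm (vQ.trans qW) qW] at v
  have := (qt_eq_bot (vQ.trans qW)).1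
    ((((O_pi {2} H).qt W).nil).eq_bot_of_le_comm (qt_mono W vQ) v)
  exact h.ne (by rwa [le_antisymm this wV] at hV)

theorem contra : False := by
  obtain ⟨E, E0, B, a, y, l, eT, aE, aa, bE, eB, aB, r2, r⟩ := h.key
  have nc := h.not_cm l.yH l.nW
  have hV := Loc.le_normalizer_ncl W H
  have aV := Loc.le_normalizer_ncl' h.aW h.fp.norm
  have wV := Loc.le_ncl W H
  have wV' : cj y W ≤ Loc.ncl W H := Loc.cj_le_ncl l.yH
  have vQ := h.VQ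
  have eV := h.V_ab
  generalize Loc.ncl W H = V at *
  have h2 := norm_commutator hV (O_normal {2} H).norm
  have a2 := norm_commutator aV h.aQ
  have l2 : ⁅V, 𝐎 {2} H⁆ ≤ V := comm_le_left ((O_le _ _).trans hV)
  have vH := vQ.trans (O_le _ _)
  have aH : a ∈ H := h.syl.le (eT aE)
  have yV := hV l.yH
  have i1 : ¬ (𝐂₁ y).relIndex V ≤ 4 := fun k => l.nW (cent_le_norm W (cent_anti wV
    (s4 h.fp h.sol vH aV eV.pi hV l.yH l.odd k)))
  have i2 : (𝐂₁ (y * a * y⁻¹)).relIndex V = (𝐂₁ a).relIndex V := by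
    rw [← cj_cent1, ← relIndex_cj y (𝐂₁ a), cj_of_norm yV]
  have i3 := relIndex_inf_le (H := 𝐂₁ a) (K := 𝐂₁ (y * a * y⁻¹)) (L := V)
  have i4 := ri_anti (cc_le l.odd l.inv) V
  have i5 := ri_anti (X := 𝐂 (cj y W) ⊓ B) (inf_le_right.trans aB) V
  have i6 := ri_two eV.pi (𝐂₁ a)
  have i7 : (𝐂₁ a).relIndex V = 4 := by
    rw [i2] at i3
    have : ¬ (𝐂₁ a).relIndex V ≤ 2 := fun k => by nlinarith
    omega
  obtain ⟨c, hc⟩ := idx_sq eV (hV aH) yV aa l.odd l.inv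
  rw [i2, i7] at i3
  have i8 : (𝐂₁ y).relIndex V = 16 := by
    have a1 : ¬ c ≤ 2 := fun k => by nlinarith
    have a2 : ¬ 5 ≤ c := fun k => by nlinarith
    have a3 : c ≠ 3 := by
      rintro rfl
      have := eV.pi.relIndex (𝐂₁ y) 3 Nat.prime_three (by rw [hc]; norm_num)
      simp at this
    obtain rfl : c = 4 := by omega
    exact hc
  have j1 : 𝐂₁ y ⊓ V ≤ 𝐂₁ a := (le_of_ri (inf_le_left.trans (cc_le l.odd l.inv))
    (by omega)).trans inf_le_left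
  obtain ⟨b, hb, nb⟩ := SetLike.not_le_iff_exists.1 (mt (relIndex_eq_one (H := 𝐂 (cj y W))
    (K := B)).2 (by omega))
  have bB : 𝐂 (cj y W) ⊓ B ≤ 𝐂₁ b := inf_le_right.trans (eB.abel.trans (cent_le_cent1 hb))
  have j2 : 𝐂₁ a ⊓ V ≤ 𝐂₁ b :=
    (le_of_ri (inf_le_left.trans (inf_le_right.trans aB)) (by omega)).trans bB
  have e0 := l.le.trans eT
  have j3 : (𝐂₁ b).relIndex (cj y W) = 4 := by
    have a1 := (ri_mono wV' _).trans (ri_anti bB V)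
    have a2 := mt ((h.wn.cj y).nf (zpowers b) (zpowers_le.2 ((cj_of_norm l.nE).ge.trans
      (cj_mono y e0) (bE hb))) (eB.le (zpowers_le.2 hb))) (mt zpowers_le.1 nb)
    have a3 := relIndex_pos (𝐂 (cj y W)) (zpowers b)
    have a4 := mt (relIndex_eq_one (H := 𝐂 (cj y W)) (K := zpowers b)).1 (mt zpowers_le.1 nb)
    have a5 := ri_two (h.ab.cj y).pi (𝐂₁ b)
    rw [cent_zpowers] at a2
    omega
  have k1 := mt (s4q h.fp h.sol vH aV eV.pi hV h2 a2 (vH.trans h2) l.yH l.odd) nc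
  have k2 := relIndex_mul_relIndex (V ⊓ 𝐂₁ y) (⁅V, 𝐎 {2} H⁆ ⊔ (V ⊓ 𝐂₁ y)) V le_sup_right
    (sup_le l2 inf_le_left)
  rw [inf_relIndex_left, i8] at k2
  have k3 := (ri_anti (inf_le_right : V ⊓ 𝐂₁ y ≤ _) _).trans
    (ri_mono (le_sup_left : ⁅V, 𝐎 {2} H⁆ ≤ _ ⊔ (V ⊓ 𝐂₁ y)) _)
  have k4 := s4 h.fp h.sol (l2.trans vH) a2 (eV.le l2).pi h2 l.yH l.odd (by nlinarith)
  have bH : b ∈ H := h.syl.le (e0 (bE hb))
  have b1 : b ∈ 𝐂 ⁅V, 𝐎 {2} H⁆ :=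
    le_cent1_iff.1 ((le_inf ((le_inf (le_cent1_iff.2 k4) l2).trans j1) l2).trans j2)
  have q1 : V ⊓ 𝐂₁ a ≤ qp ⁅V, 𝐎 {2} H⁆ (𝐂₁ (qe _ b)) := fun v hv => (mem_qc (h2 bH)).2
    ⟨h2 (vH hv.1), by
      rw [commutatorElement_eq_one_iff_mul_comm.2 (mem_cent1.1 (j2 ⟨hv.2, hv.1⟩))]; exact one_mem _⟩
  have q2 : V ⊓ 𝐂₁ (y * a * y⁻¹) ≤ qp ⁅V, 𝐎 {2} H⁆ (𝐂₁ (qe _ b)) := fun v hv => by
    refine (mem_qc (h2 bH)).2 ⟨h2 (vH hv.1), ?_⟩
    have : v ∈ 𝐂₁ (y * b * y⁻¹) := by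
      rw [← cj_cent1, mem_cj]
      refine j2 ⟨?_, conj_mem_of_norm' yV hv.1⟩
      exact mem_cj.1 ((cj_cent1 y a).ge hv.2)
    have e : ⁅v, b⁆ = ⁅v, ⁅y, b⁆⁻¹⁆ := by
      simp only [commutatorElement_def]
      calc _ = v * b * (y * b * y⁻¹ * v)⁻¹ * (y * b * y⁻¹) * b⁻¹ := by group
        _ = _ := by rw [← mem_cent1.1 this]; group
    rw [e]; exact commutator_mem_commutator hv.1 (inv_mem (l.cm b (bE hb)))
  have b2 : b ∈ centMod V ⁅V, 𝐎 {2} H⁆ := by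
    have := comm_sup_inf_cent (zpowers_le.2 yV) (odd_cop l.odd eV.pi) (.inr eV.abel.sol)
    have := this.ge.trans (sup_le ((cm_le_cc eV (hV aH) yV aa l.odd l.inv).trans (sup_le q1 q2))
      ((le_inf inf_le_left (by rw [cent_zpowers, inf_comm]; exact j1)).trans q1))
    refine mem_centMod.2 ⟨h2 bH, fun u hu => ?_⟩
    rw [← commutatorElement_inv]
    exact inv_mem ((mem_qc (h2 bH)).1 (this hu)).2
  have x1 : T ⊓ (𝐂 ⁅V, 𝐎 {2} H⁆ ⊓ centMod V ⁅V, 𝐎 {2} H⁆) ≤ 𝐂 ⁅V, 𝐎 {2} H⁆ :=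
    inf_le_right.trans inf_le_left
  have x2 : ⁅T ⊓ (𝐂 ⁅V, 𝐎 {2} H⁆ ⊓ centMod V ⁅V, 𝐎 {2} H⁆), V⁆ ≤ ⁅V, 𝐎 {2} H⁆ :=
    (le_centMod.1 (inf_le_right.trans inf_le_right)).2
  refine h.wh.t4 (T ⊓ (𝐂 ⁅V, 𝐎 {2} H⁆ ⊓ centMod V ⁅V, 𝐎 {2} H⁆)) inf_le_left
    (norm_inf h.aT (norm_inf (norm_cent a2) (norm_centMod aV a2))) ?_ (fun e he => ?_) (y⁻¹ * b * y)
    ⟨e0 (conj_mem_of_norm' l.nE (bE hb)), conj_mem_of_norm'
      (norm_inf (norm_cent h2) (norm_centMod hV h2) l.yH) ⟨b1, b2⟩⟩ ?_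
  · generalize T ⊓ _ = X at *
    have z := ((commutator_mono x2 le_rfl).trans (comm_eq_bot'.2 x1).le)
    exact (comm_eq_bot.1 (le_bot_iff.1 (three_subgroup (N := ⊥) (by simp) (by simp) (by simp) z
      (by rwa [commutator_comm V])))).trans (cent_anti wV)
  · refine mem_cent.2 fun w hw => ?_
    have d := x2 (commutator_mem_commutator he (wV hw))
    have d1 := mem_cent.1 (x1 he) _ d
    have d2 := sq1 eV (l2 d)
    have d3 : e * w = ⁅e, w⁆ * w * e := by rw [commutatorElement_def]; group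
    generalize ⁅e, w⁆ = s at *
    calc w * (e * e) = s * s * w * (e * e) := by rw [d2, one_mul]
      _ = s * (s * w * e) * e := by group
      _ = s * e * w * e := by rw [← d3]; group
      _ = e * (s * w * e) := by rw [d1]; group
      _ = _ := by rw [← d3, mul_assoc]
  · rw [← relIndex_cj y, cj_cent1, ← j3]
    congr 3; group

end Cy

theorem Cx.fact (h : Cx H A T W) : H ≤ 𝐍 W := by
  induction H using card_induction with
  | h H ih =>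
    by_contra k
    exact Cy.contra { h with
      ne := k
      ih := fun K a b c d => ih K (card_lt (lt_of_le_of_ne b c)) (h.mono a b d) }

omit [Finite Γ] in
theorem qt_cent_inj (n : T ≤ 𝐍 O) (i : O ⊓ T = ⊥) (hX : X ≤ T) (hY : Y ≤ T) :
    qt O Y ≤ 𝐂 (qt O X) ↔ Y ≤ 𝐂 X := by
  refine ⟨fun k => comm_eq_bot.1 (eq_bot_mono i (le_inf ?_ ?_)), qt_cent O⟩
  · exact (qt_cent_iff (hY.trans n) (hX.trans n)).1 k
  · exact (commutator_mono hY hX).trans (der_le T)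

theorem qt_ri (n : T ≤ 𝐍 O) (i : O ⊓ T = ⊥) (hX : X ≤ T) (hY : Y ≤ T) :
    (𝐂 (qt O X)).relIndex (qt O Y) = (𝐂 X).relIndex Y := by
  have e : 𝐂 (qt O X) ⊓ qt O Y = qt O (𝐂 X ⊓ Y) := by
    refine le_antisymm (fun z hz => ?_) (le_inf (qt_cent O inf_le_left) (qt_mono O inf_le_right))
    obtain ⟨x, a, b, rfl⟩ := mem_qt.1 hz.2
    refine qe_mem_qt ⟨zpowers_le.1 ((qt_cent_inj n i hX (zpowers_le.2 (hY a))).1 ?_), a⟩ b
    rw [qt_zpowers b]; exact zpowers_le.2 hz.1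
  have c : ∀ Z, Z ≤ T → ♯(qt O Z) = ♯Z := fun Z z =>
    card_qt_of_inf_bot (z.trans n) (eq_bot_mono i (inf_le_inf_left O z))
  have a := card_inf_mul_relIndex (𝐂 (qt O X)) (qt O Y)
  rw [e, c _ (inf_le_right.trans hY), c _ hY, ← card_inf_mul_relIndex (𝐂 X) Y] at a
  exact Nat.eq_of_mul_eq_mul_left (card_pos' _) a

theorem Wh.qt (w : Wh T W A) (n : T ≤ 𝐍 O) (i : O ⊓ T = ⊥) (hW : W ≤ T) (a : A ≤ 𝐍 O)
    (aT : A ≤ 𝐍 T) : Wh (qt O T) (qt O W) (qt O A) := by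
  have k : ∀ E ≤ BG.qt O T, BG.qt O (T ⊓ qp O E) = E := fun E l => by
    rw [qt_inf_qp, inf_of_le_right l]
  have ab : ∀ E ≤ T, Abelem 2 (BG.qt O E) → Abelem 2 E := fun E l e =>
    .mk' Nat.prime_two ((qt_cent_inj n i l l).1 e.abel) fun x hx =>
      eq_one_of_mem_bot i ⟨(qe_eq_one (n (l (pow_mem hx 2)))).1 (by
        rw [qe_pow (n (l hx))]; exact e.pow _ (qe_mem_qt hx (n (l hx)))), l (pow_mem hx 2)⟩
  refine ⟨fun E l e r => ?_, fun E l e r => ?_, fun E l m c s t ht => ?_⟩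
  · rw [← k E l] at e r ⊢
    rw [qt_ri n i inf_le_left hW, qt_ri n i hW inf_le_left] at r
    exact qt_cent O (w.nf _ inf_le_left (ab _ inf_le_left e) r)
  · rw [← k E l] at e r ⊢
    rw [qt_ri n i inf_le_left hW, qt_ri n i hW inf_le_left] at r
    rw [qt_ri n i hW inf_le_left]
    exact w.f1 _ inf_le_left (ab _ inf_le_left e) r
  · have m' := norm_inf aT (norm_qp a m)
    rw [← k E l] at c s ht
    have l' : T ⊓ qp O E ≤ T := inf_le_left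
    generalize T ⊓ qp O E = F at *
    obtain ⟨x, hx, b, rfl⟩ := mem_qt.1 ht
    rw [← qt_comm (l'.trans n) (l'.trans n), qt_cent_inj n i hW ((der_le F).trans l')] at c
    rw [← cent_zpowers, ← qt_zpowers b, qt_ri n i (zpowers_le.2 (l' hx)) hW, cent_zpowers]
    refine w.t4 F l' m' c (fun y hy => ?_) x hx
    have z := n (l' hy)
    refine zpowers_le.1 ((qt_cent_inj n i hW (zpowers_le.2 (l' (mul_mem hy hy)))).1 ?_)
    rw [qt_zpowers (mul_mem z z), qe_mul z z]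
    exact zpowers_le.2 (s _ (qe_mem_qt hy z))

omit [Finite Γ] in
theorem qt_JH (n : T ≤ 𝐍 O) (i : O ⊓ T = ⊥) : JJ (qt O T) = qt O (JJ T) := by
  rw [qt, qt, JJ, PLocal.thompson_map, PLocal.thompson_subgroupOf n]
  intro x hx y hy e
  have : x⁻¹ * y ∈ (qmk O).ker := by rw [MonoidHom.mem_ker, map_mul, map_inv, e, inv_mul_cancel]
  rw [qmk_ker] at this
  exact Subtype.ext (inv_mul_eq_one.1 (eq_one_of_mem_bot i
    (mem_inf.2 ⟨this, T.mul_mem (T.inv_mem (mem_subgroupOf.1 hx)) (mem_subgroupOf.1 hy)⟩)))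

/-- the factorization of the invariant overgroups of `T` -/
theorem MC.fact {G : Subgroup Γ} (h : MC G A T) (w : Wh T (WW G T) A) :
    ∀ H, T ≤ H → H ≤ G → H ≠ G → A ≤ 𝐍 H → H ≤ 𝐎 {2}ᶜ H ⊔ (H ⊓ 𝐍 (WW G T)) := by
  intro H l k ne a
  have s := h.sol H k ne a
  have o : 𝐎 {2}ᶜ H ⊴ H := O_normal _ _
  have p : PiGrp {2}ᶜ (𝐎 {2}ᶜ H) := O_pi _ _
  have aO : A ≤ 𝐍 (𝐎 {2}ᶜ H) := le_norm_O _ a
  have z := O_qt_O {2}ᶜ H
  generalize 𝐎 {2}ᶜ H = O at *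
  have n := l.trans o.norm
  have i := p.inf_eq_bot' h.syl.pi
  have wT := W_le G T
  have jT := PLocal.thompson_le 2 T
  have c : ∀ X, X ≤ T → qt O (H ⊓ 𝐍 X) = qt O H ⊓ 𝐍 (qt O X) := fun X x =>
    qt_inf_norm_coprime o (x.trans n) ((h.syl.pi.le x).coprime p) (.inr (s.mono o.le))
  have := Cx.fact (H := qt O H) (A := qt O A) (T := qt O T) (W := qt O (WW G T))
    { fp := (h.fp.mono k a).qt o.norm aO
      sol := s.qt O
      syl := (h.syl.of_le l k).qt o.norm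
      aT := qt_norm O h.inv
      cq := (s.qt O).cent_O_le z
      wT := qt_mono O wT
      ab := (W_abelem G T).qt O
      tW := qt_norm O (h.T_le_M.trans (M_norm G T))
      aW := qt_norm O h.normW
      jW := by rw [qt_JH n i]; exact qt_cent O (cent_symm (W_cent_J G T))
      nJ := by
        rw [qt_JH n i, ← c _ jT]
        exact qt_norm O ((inf_le_inf_right _ k).trans (normJ_le G T))
      wh := w.qt n i wT aO h.inv }
  rw [← qt_le_qt_iff o.norm (inf_le_left.trans o.norm), c _ wT]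
  exact le_inf le_rfl this

end CF.Odc
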