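import Cfsg.Agent.Odc.N3

/-! Existence of the block -/

set_option autoImplicit false

namespace CF.Odc
open Cfsg Subgroup CF.Loc CF.FF Function
open CF.BG (Quo qt qp qe qmk qt_mono mem_qt qe_mem_qt qt_qp)
open CF.PLocal (maxAb thompson_le le_thompson)
open scoped commutatorElement MatrixGroups

universe u
variable {Γ : Type u} [Group Γ] {G A T M P Q S X Y K B L O H N : Subgroup Γ} {g : Γ}

section Quo

/-- the map to the quotient -/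
def tau (n : S ≤ 𝐍(O)) : S →* Quo O := (qmk O).comp (inclusion n)

theorem tau_apply (n : S ≤ 𝐍(O)) (x : S) : tau n x = qe O x := (BG.qe_eq (n x.2)).symm

theorem mem_qt' (n : S ≤ 𝐍(O)) (y : Quo O) : y ∈ qt O S ↔ ∃ v ∈ S, qe O v = y :=
  mem_qt.trans ⟨fun ⟨x, a, _, c⟩ => ⟨x, a, c⟩, fun ⟨x, a, c⟩ => ⟨x, a, n a, c⟩⟩

theorem map_tau (n : S ≤ 𝐍(O)) (X : Subgroup S) : X.map (tau n) = qt O (X.map S.subtype) := Subgroup.ext fun y => by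
  rw [mem_qt' ((map_subtype_le X).trans n)]
  exact ⟨fun ⟨x, a, b⟩ => ⟨x, ⟨x, a, rfl⟩, tau_apply n x ▸ b⟩, fun ⟨_, ⟨x, a, rfl⟩, b⟩ => ⟨x, a, (tau_apply n x).trans b⟩⟩

theorem qt_res [Finite Γ] (n : L ≤ 𝐍(O)) : qt O 𝐑[2](L) = 𝐑[2](qt O L) := by
  obtain ⟨L, rfl⟩ : ∃ X : Subgroup 𝐍(O), X.map 𝐍(O).subtype = L := ⟨_, map_subgroupOf_eq_of_le n⟩
  rw [← map_pResidualOf, ← map_tau le_rfl, ← map_tau le_rfl, map_pResidualOf]

variable (n : S ≤ 𝐍(O)) (i : S ⊓ O = ⊥)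
include n i

theorem qe_inj {v w : Γ} (hv : v ∈ S) (hw : w ∈ S) (e : qe O v = qe O w) : v = w :=
  inv_mul_eq_one.1 (BG.eq_one_of_mem_bot i (mem_inf.2 ⟨mul_mem (inv_mem hv) hw, (BG.qe_eq_iff (n hv) (n hw)).1 e⟩))

theorem tau_inj : Injective (tau n) := fun x y e =>
  Subtype.ext (qe_inj n i x.2 y.2 (by rwa [tau_apply, tau_apply] at e))

theorem le_of_qt (hX : X ≤ S) (hY : Y ≤ S) (h : qt O X ≤ qt O Y) : X ≤ Y := fun x hx => by
  obtain ⟨y, hy, e⟩ := (mem_qt' (hY.trans n) _).1 (h (qe_mem_qt hx (n (hX hx))))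
  exact qe_inj n i (hY hy) (hX hx) e ▸ hy

theorem cent_of_qt (hX : X ≤ S) (hY : Y ≤ S) (h : qt O X ≤ 𝐂(qt O Y)) : X ≤ 𝐂(Y) :=
  commutator_eq_bot_iff_le_centralizer.1 (BG.eq_bot_mono i (le_inf ((commutator_mono hX hY).trans (commutator_le_self S))
    ((BG.qt_cent_iff (hX.trans n) (hY.trans n)).1 h)))

theorem qt_omega (hX : X ≤ S) : qt O 𝛀[2](X) = 𝛀[2](qt O X) := by
  obtain ⟨X, rfl⟩ : ∃ Y : Subgroup S, Y.map S.subtype = X := ⟨_, map_subgroupOf_eq_of_le hX⟩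
  rw [omega_map S.subtype_injective, ← map_tau n, ← map_tau n, omega_map (tau_inj n i)]

theorem qt_J (hX : X ≤ S) : qt O 𝐉[2](X) = 𝐉[2](qt O X) := by
  obtain ⟨X, rfl⟩ : ∃ Y : Subgroup S, Y.map S.subtype = X := ⟨_, map_subgroupOf_eq_of_le hX⟩
  rw [PLocal.thompson_map S.subtype_injective.injOn, ← map_tau n, ← map_tau n, PLocal.thompson_map (tau_inj n i).injOn]

omit n i in
theorem bau_map {H H' : Type*} [Group H] [Group H'] {f : H →* H'} (hf : Injective f) (T : Subgroup H) :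
    𝐁[2](T.map f) = (𝐁[2](T)).map f := by
  change T.map f ⊓ 𝐂(𝛀[2](𝐉[2](T.map f))) = (T ⊓ 𝐂(𝛀[2](𝐉[2](T)))).map f
  rw [map_inf_cent hf, ← omega_map hf, PLocal.thompson_map hf.injOn]

theorem qt_B (hX : X ≤ S) : qt O 𝐁[2](X) = 𝐁[2](qt O X) := by
  obtain ⟨X, rfl⟩ : ∃ Y : Subgroup S, Y.map S.subtype = X := ⟨_, map_subgroupOf_eq_of_le hX⟩
  rw [bau_map S.subtype_injective, ← map_tau n, ← map_tau n, bau_map (tau_inj n i)]

end Quo

local notation "𝐌" => MM G T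
local notation "𝐙" => Cfsg.omegaOneCenter 2 T
local notation "𝐁₀" => Cfsg.baumannSubgroupOf 2 S

variable [Finite Γ]

/-- the normalizer of a centric bad subgroup -/
structure SQ (G A T S H O : Subgroup Γ) : Prop extends Sel G A T S where
  HG : H ≤ G
  sy : IsSyl 2 S H
  nO : BG.NormalIn O H
  pO : BG.PiGrp {2}ᶜ O
  ch : IsCharP 2 (qt O H)
  key : ∀ g ∈ H, Gd (MM G T) 𝛀[2](T) g ↔ qe O g ∈ qt O (H ⊓ MM G T)
  bd : ∃ g ∈ H, ¬ Gd (MM G T) 𝛀[2](T) g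

theorem Sel.exists_sq (h : Sel G A T S) : ∃ H O, SQ G A T S H O := by
  obtain ⟨Q, QS, ZQ, nQ, bd, cQ, sy⟩ := h.exists_Q
  have QT := QS.trans h.le
  have QG := QT.trans h.syl.le
  have pQ := h.pT.to_le QT
  have OC := BG.O_norm_le_cent (piG pQ) QG
  have nO := BG.O_normal {2}ᶜ (G ⊓ 𝐍(Q))
  have pO := BG.O_pi {2}ᶜ (G ⊓ 𝐍(Q))
  have CQ : G ⊓ 𝐂(Q) ≤ Q ⊔ piCoreOf {2}ᶜ (G ⊓ 𝐍(Q)) := by
    have sC := sy.inf_of_le_normalizer (inf_le_inf_left G (centralizer_le_normalizer _)) (le_normalizer_inf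
      (inf_le_left.trans le_normalizer) (le_normalizer_centralizer inf_le_right))
    have l : S ⊓ (G ⊓ 𝐂(Q)) ≤ Q := (inf_le_inf_left _ inf_le_right).trans cQ
    exact (BG.Hall.dprod_of_cent (syl_of_isSyl sC) (inf_le_right.trans (centralizer_anti l))).sup.ge.trans
      (sup_le_sup l (BG.O_norm_eq_O_cent (piG pQ) QG).ge)
  generalize piCoreOf {2}ᶜ (G ⊓ 𝐍(Q)) = O at OC nO pO CQ
  have QH : Q ≤ G ⊓ 𝐍(Q) := le_inf QG le_normalizer
  have gq : ∀ g ∈ G ⊓ 𝐍(Q), Gd 𝐌 𝐙 g → Gd 𝐌 Q g := fun g hg => h.gd_of_Z hg.1 QT (by rwa [cj_eq_self hg.2])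
  refine ⟨_, O, h, inf_le_left, sy, nO, pO, ?_, fun g hg => ⟨fun k => ?_, fun k => ?_⟩, ?_⟩
  · have l : qt O Q ≤ 𝐎[2](qt O (G ⊓ 𝐍(Q))) := le_pCoreOf ((piG pQ).qt O).isPGroup (qt_mono O QH) (BG.qt_norm O inf_le_right)
    refine (inf_le_inf_left _ (centralizer_anti l)).trans (le_trans ?_ l)
    rw [← BG.qt_inf_cent' (QH.trans nO.norm) (QH.trans le_normalizer) ((piG pQ).coprime pO) (.inl (piG pQ).sol),
      ← BG.qt_sup_right (QH.trans nO.norm)]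
    exact qt_mono O ((inf_le_inf_right _ inf_le_left).trans CQ)
  · obtain ⟨m, hm, c⟩ := gq g hg k
    have c1 : m⁻¹ * g ∈ G ⊓ 𝐂(Q) := ⟨G.mul_mem (G.inv_mem (M_le G T hm)) hg.1, c⟩
    have m1 : m ∈ G ⊓ 𝐍(Q) := by
      have := mul_mem hg (inv_mem (inf_le_inf_left G (centralizer_le_normalizer _) c1))
      rwa [show g * (m⁻¹ * g)⁻¹ = m by group] at this
    rw [← BG.qt_sup_right (inf_le_left.trans nO.norm), ← mul_inv_cancel_left m g]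
    exact qe_mem_qt (mul_mem (mem_sup_left (mem_inf.2 ⟨m1, hm⟩)) (sup_le_sup_right (le_inf QH (QT.trans h.TM)) O (CQ c1)))
      (by rw [mul_inv_cancel_left]; exact nO.norm hg)
  · obtain ⟨m, hm, hn, e⟩ := mem_qt.1 k
    exact ⟨m, hm.2, centralizer_anti ZQ (OC ((BG.qe_eq_iff hn (nO.norm hg)).1 e))⟩
  · obtain ⟨g, hg, c⟩ := bd
    exact ⟨g, hg, fun k => c (gq g hg k)⟩

namespace SQ
variable (h : SQ G A T S H O)
include h

theorem nS : S ≤ 𝐍(O) := h.sy.le.trans h.nO.norm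

theorem inf : S ⊓ O = ⊥ := (piG h.pS).inf_eq_bot h.pO

theorem le_M (hK : K ≤ H) (c : ∀ g ∈ K, Gd 𝐌 𝐙 g) : qt O K ≤ qt O (H ⊓ 𝐌) := fun y hy => by
  obtain ⟨g, hg, -, rfl⟩ := mem_qt.1 hy
  exact (h.key g (hK hg)).1 (c g hg)

theorem norm_eq (hK : BG.NormalIn O K) (hX : X ≤ S) : qt O K ⊓ 𝐍(qt O X) = qt O (K ⊓ 𝐍(X)) :=
  have p := piG (h.pS.to_le hX)
  (BG.qt_inf_norm_coprime hK (hX.trans h.nS) (p.coprime h.pO) (.inl p.sol)).symm

theorem norm_le (h1 : 𝐙 ≤ X) (hX : X ≤ S) (c : ¬ Bad G 𝐌 X) : qt O H ⊓ 𝐍(qt O X) ≤ qt O (H ⊓ 𝐌) := by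
  rw [h.norm_eq h.nO hX]
  exact h.le_M inf_le_left fun g hg => (gd_of_not_bad c (h.HG hg.1) hg.2).mono h1

theorem hz : Hz 2 (qt O H) (qt O S) (qt O (H ⊓ 𝐌)) := by
  refine ⟨h.ch, isSyl_of_syl ((syl_of_isSyl h.sy).qt h.nO.norm), qt_mono O (le_inf h.sy.le (h.le.trans h.TM)), ?_, ?_, ?_⟩
  · have p := piG (h.pS.to_le h.ZS)
    rw [← qt_omega h.nS h.inf le_rfl]
    refine (inf_le_inf_left _ (centralizer_anti (qt_mono O (le_omegaOneCenter (isElemAb_omegaOneCenter 2 T) h.ZS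
      ((omegaOneCenter_le_centralizer 2 T).trans (centralizer_anti h.le)))))).trans ?_
    rw [← BG.qt_inf_cent' (h.ZS.trans h.nS) ((h.ZS.trans h.sy.le).trans le_normalizer) (p.coprime h.pO) (.inl p.sol)]
    exact h.le_M inf_le_left fun g hg => gd_of_cent hg.2
  · rw [← qt_J h.nS h.inf le_rfl]; exact h.norm_le h.ZJ (thompson_le 2 S) h.not_bad_J
  · rw [← qt_B h.nS h.inf le_rfl]; exact h.norm_le h.ZB (baumann_le 2 S) h.not_bad_B

theorem exists_sn : ∃ (L Q : Subgroup Γ) (F : Type) (_ : Field F) (_ : Finite F) (ρ : Γ → SL(2, F)) (ψ : Γ → Fin 2 → F),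
    SN G A T S L Q F ρ ψ := by
  obtain ⟨N, k⟩ := h.exists_nb
  have nS := h.nS
  have i := h.inf
  have BS := baumann_le 2 S
  obtain ⟨P, PH, u⟩ := exists_uMax h.hz.le h.hz.syl.le fun e =>
    let ⟨g, hg, c⟩ := h.bd; c ((h.key g hg).2 (e (qe_mem_qt hg (h.nO.norm hg))))
  have SP := u.le.trans inf_le_left
  have z := h.hz.mono SP PH
  obtain ⟨L', LP, nL, LM, pu, ch⟩ := z.rk u
  obtain ⟨-, -, -, F, _, _, ρ, ψ, w⟩ := z.nat LP LM pu ch le_rfl (baumann_le 2 _)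
  rw [← qt_B nS i le_rfl] at pu w
  have LH : qp O L' ≤ H := BG.qp_le_of_le_qt h.nO (LP.trans PH)
  have eN : ∀ X ≤ S, L' ≤ 𝐍(qt O X) → qt O (qp O L' ⊓ 𝐍(X)) = L' := fun X a b => by
    rw [← h.norm_eq (BG.normal_qp L') a, qt_qp, inf_eq_left.2 b]
  have bd : ∀ X ≤ S, L' ≤ 𝐍(qt O X) → ∃ g ∈ qp O L' ⊓ 𝐍(X), ¬ Gd 𝐌 𝐙 g := fun X a b => by_contra fun c => by
    push Not at c
    exact LM ((eN X a b).ge.trans (h.le_M (inf_le_left.trans LH) c))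
  have hb : ∀ V ≤ 𝐕[2](L'), L' ≤ 𝐍(V) → ¬ 𝐑[2](L') ≤ 𝐂(V) → ⁅𝐎[2](L'), 𝐑[2](L')⁆ ≤ V := fun V a b c => by
    have e : Subgroup.map (𝐁₀).subtype ⊤ = 𝐁₀ := by rw [← MonoidHom.range_eq_map, range_subtype]
    refine BH.blk (M := L' ⊓ qt O (H ⊓ 𝐌)) (tau_inj (BS.trans nS) (BG.eq_bot_mono i (inf_le_inf_right _ BS)))
      (𝐁₀).subtype_injective (by rw [map_tau, e]; exact ⟨pu, ch, a, b, c⟩) (N := N) (by rw [e]; exact k.le)
      (by rw [e]; exact k.norm) (Z := (𝐙).subgroupOf 𝐁₀) (fun x hx y _ => Subtype.ext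
        (omegaOneCenter_le_centralizer 2 T hx y (h.BT y.2))) fun Y a b c => ?_
    rw [map_tau] at c
    have a' : 𝐙 ≤ Y.map (𝐁₀).subtype := map_subgroupOf_eq_of_le h.ZB ▸ map_mono a
    obtain ⟨g, hg, d⟩ := bd _ ((map_subtype_le Y).trans BS) c
    exact k.nb _ a' (map_subtype_le Y) b ⟨g, ⟨h.HG (LH hg.1), hg.2⟩, fun e => d (e.mono a')⟩
  have b1 := hb _ w.le w.nat.norm (not_res_le w.syl w.nat.not_le_cent)
  have RP := (pResidualOf_le 2 L').trans LP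
  have nV := norm_omega 2 P
  have pV := isElemAb_isPGroup (isElemAb_omegaOneCenter 2 𝐎[2](P))
  have v1 : ⁅𝐔[2](P), 𝐑[2](L')⁆ ≤ 𝐔[2](P) := commutator_le_left_of_le_normalizer (RP.trans nV)
  have v2 : L' ≤ 𝐍(⁅𝐔[2](P), 𝐑[2](L')⁆) := le_normalizer_commutator (LP.trans nV) (le_normalizer_pResidualOf 2 L')
  have v3 := commutator_commutator_pResidualOf pV (LP.trans nV)
  have b2 := (hb _ ((v3.ge.trans (commutator_mono (le_pCoreOf (pV.to_le v1) ((commutator_le_right_of_le_normalizer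
    (((U_le_core 2 P).trans nL).trans (normalizer_le_normalizer_pResidualOf 2 L'))).trans (pResidualOf_le 2 L')) v2)
      le_rfl)).trans (b1.trans w.le)) v2 fun e => pu.um.not_pResidualOf_le pu.syl (le_inf (pResidualOf_le 2 L')
        ((le_inf RP (commutator_eq_bot_iff_le_centralizer'.1 (v3.symm.trans
          (commutator_eq_bot_iff_le_centralizer'.2 e)))).trans z.cV))).trans v1
  obtain ⟨Q, hQ⟩ : ∃ Q, Q = 𝐁₀ ⊓ qp O 𝐎[2](L') := ⟨_, rfl⟩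
  have QB : Q ≤ 𝐁₀ := hQ ▸ inf_le_left
  have QS := QB.trans BS
  have eQ : qt O Q = 𝐎[2](L') := by rw [hQ, BG.qt_inf_qp, inf_eq_right.2 pu.syl.pCoreOf_le]
  have nQ : L' ≤ 𝐍(qt O Q) := eQ ▸ le_normalizer_pCoreOf 2 L'
  have eL := eN Q QS nQ
  have BL : 𝐁₀ ≤ qp O L' ⊓ 𝐍(Q) := le_inf ((BG.qt_le_iff (BS.trans nS)).1 pu.syl.le) (hQ ▸ le_normalizer_inf le_normalizer
    (BG.norm_qp (BS.trans nS) (pu.syl.le.trans (le_normalizer_pCoreOf 2 L'))))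
  have bd' := bd Q QS nQ
  have L1 : qp O L' ⊓ 𝐍(Q) ≤ H := inf_le_left.trans LH
  have L2 : qp O L' ⊓ 𝐍(Q) ≤ 𝐍(Q) := inf_le_right
  generalize qp O L' ⊓ 𝐍(Q) = L at eL BL bd' L1 L2
  have nL' := L1.trans h.nO.norm
  have eV : qt O 𝛀[2](Q) = 𝐔[2](L') := by rw [qt_omega nS i QS, eQ]
  have VQ := omegaOneCenter_le 2 Q
  have UQ : UU L Q ≤ Q := commutator_le_left_of_le_normalizer ((pResidualOf_le 2 L).trans L2)
  have eU : qt O (UU L Q) = ⁅𝐎[2](L'), 𝐑[2](L')⁆ := by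
    rw [BG.qt_comm (QS.trans nS) ((pResidualOf_le 2 L).trans nL'), qt_res nL', eQ, eL]
  refine ⟨L, Q, F, _, inferInstance, _, _, h.toSel, ⟨⟨BL, h.pB, fun X p a b => ?_⟩, QB, L2, natOn_comap w.nat (qe O)
    (fun g hg k hk => BG.qe_mul (nL' hg) (nL' hk)) (L2.trans (normalizer_le_normalizer_omegaOneCenter 2 Q))
    ((VQ.trans QB).trans BL) BL (eV ▸ mem_qt' ((VQ.trans QS).trans nS)) (eL ▸ mem_qt' nL') (mem_qt' (BS.trans nS))
    fun v hv w hw => qe_inj nS i (QS (VQ hv)) (QS (VQ hw)), le_of_qt nS i (inf_le_left.trans BS) QS ?_,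
    le_of_qt nS i (UQ.trans QS) (VQ.trans QS) (by rwa [eU, eV])⟩, L1.trans h.HG, bd', fun s hs => ?_⟩
  · have iX := (piG p).inf_eq_bot h.pO
    exact le_antisymm (le_of_qt (b.trans nL') iX le_rfl a (pu.syl.eq_of_le ((piG p).qt O).isPGroup (qt_mono O a)
      (eL ▸ qt_mono O b)).le) a
  · rw [eQ, ← w.cent, ← eV]
    exact le_inf (qt_mono O inf_le_left) (BG.qt_cent O inf_le_right)
  · have a1 : UU L Q ≤ S ⊓ qp O 𝐔[2](P) := le_inf (UQ.trans QS) ((BG.qt_le_iff ((UQ.trans QS).trans nS)).1 (eU ▸ b2))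
    have a2 : qt O (S ⊓ qp O 𝐔[2](P)) ≤ 𝐔[2](P) := by rw [BG.qt_inf_qp]; exact inf_le_right
    exact (cj_le_of_mem_normalizer (le_normalizer_inf le_normalizer (BG.norm_qp nS (SP.trans nV)) hs) a1).trans
      ((cent_of_qt nS i inf_le_left inf_le_left (a2.trans ((U_ab 2 P).trans (centralizer_anti a2)))).trans
        (centralizer_anti a1))

end SQ

theorem Sel.exists_sn (h : Sel G A T S) : ∃ (L Q : Subgroup Γ) (F : Type) (_ : Field F) (_ : Finite F) (ρ : Γ → SL(2, F))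
    (ψ : Γ → Fin 2 → F), SN G A T S L Q F ρ ψ :=
  let ⟨_, _, k⟩ := h.exists_sq; k.exists_sn

/-- strong closure follows from the nonexistence of blocks -/
theorem MX.scl_of (h : MX G A T) (k : ∀ (S L Q : Subgroup Γ) (F : Type) [Field F] [Finite F] (ρ : Γ → SL(2, F))
    (ψ : Γ → Fin 2 → F), ¬ SN G A T S L Q F ρ ψ) : SCl G T := by_contra fun c => by
  obtain ⟨S, s⟩ := h.exists_sel c
  obtain ⟨L, Q, F, _, _, ρ, ψ, n⟩ := s.exists_sn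
  exact k S L Q F ρ ψ n

end CF.Odc
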