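import Cfsg.Agent.Odc.S2

/-! Odd operator groups: no failure of factorization modules -/

set_option autoImplicit false

namespace CF.Odc
open Subgroup CF.BG
open CF.Loc (Hol bar hat piV)
open CF.FF (pb ib)
open scoped commutatorElement

universe u
variable {Γ : Type u} [Group Γ] [Finite Γ] {A E F K T V W : Subgroup Γ} {y t a k : Γ}

theorem two_mul_le {m n : ℕ} (hm : PiNat {2} m) (hn : PiNat {2} n) (m0 : m ≠ 0) (h : m < n) :
    2 * m ≤ n := by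
  obtain ⟨i, rfl⟩ := hm.exists_pow m0
  obtain ⟨j, rfl⟩ := hn.exists_pow (ne_zero_of_lt h)
  rw [← pow_succ']
  exact Nat.pow_le_pow_right two_pos ((Nat.pow_lt_pow_iff_right one_lt_two).1 h)

omit [Finite Γ] in
theorem mem_cM (hV : V ≤ W) (h : ⁅W, zpowers t⁆ ≤ V) : t ∈ centMod W V :=
  le_centMod.2 ⟨norm_of_comm_le ((commutator_mono hV le_rfl).trans h),
    (commutator_comm _ _).le.trans h⟩ (mem_zpowers t)

omit [Finite Γ] in
theorem of_cM (h : t ∈ centMod W V) : ⁅W, zpowers t⁆ ≤ V :=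
  (commutator_comm _ _).le.trans (le_centMod.1 (zpowers_le.2 h)).2

omit [Finite Γ] in
theorem inv_sq (tt : a * a = 1) (i : a * y * a⁻¹ = y⁻¹) : y * a * y⁻¹ * a = y * y := by
  rw [← i, inv_eq_of_mul_eq_one_right tt]
  calc _ = y * (a * a) * y * (a * a) := by group
    _ = _ := by rw [tt]; group

theorem inv_cm (n : a ∈ 𝐍 W) (m : y ∈ 𝐍 W) (o : Odd (orderOf y)) (tt : a * a = 1)
    (i : a * y * a⁻¹ = y⁻¹) : ⁅W, zpowers y⁆ ≤ ⁅W, zpowers a⁆ ⊔ cj y ⁅W, zpowers a⁆ := by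
  have hV : ⁅W, zpowers a⁆ ⊔ cj y ⁅W, zpowers a⁆ ≤ W := sup_le (cm_le n) (cj_le_of_norm m (cm_le n))
  have := mul_mem (mem_cM hV ((cj_cm m a).ge.trans le_sup_right)) (mem_cM hV le_sup_left)
  rw [inv_sq tt i, ← pow_two] at this
  exact of_cM (zpowers_le.2 this (mem_zpowers_pow_iff.2 (Nat.coprime_two_left.2 o)))

theorem inv_idx (m : y ∈ 𝐍 V) (o : Odd (orderOf y)) (tt : a * a = 1) (i : a * y * a⁻¹ = y⁻¹) :
    (𝐂₁ y).relIndex V ≤ (𝐂₁ a).relIndex V * (𝐂₁ a).relIndex V := by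
  have e : (𝐂₁ (y * a * y⁻¹)).relIndex V = (𝐂₁ a).relIndex V := by
    rw [← cj_cent1, ← relIndex_cj y (𝐂₁ a) V, cj_of_norm m]
  refine le_trans (Nat.le_of_dvd (relIndex_pos _ _) (relIndex_dvd_left V ?_))
    ((relIndex_inf_le (H := 𝐂₁ (y * a * y⁻¹)) (K := 𝐂₁ a)).trans (by rw [e]))
  intro v hv
  rw [← cent1_sq o, ← inv_sq tt i, mem_cent1_comm]
  exact mul_mem (mem_cent1_comm.1 hv.1) (mem_cent1_comm.1 hv.2)

omit [Finite Γ] in
theorem inv_norm (i : a * y * a⁻¹ = y⁻¹) : a ∈ 𝐍 (zpowers y) := by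
  rw [← cj_eq_self, cj_zpowers, i, zpowers_inv]

omit [Finite Γ] in
theorem cm_cent (e : Abelem 2 W) (n : a ∈ 𝐍 W) (tt : a * a = 1) : ⁅W, zpowers a⁆ ≤ W ⊓ 𝐂₁ a := by
  refine (cm_le_iff (norm_inf (zpowers_le.2 n) (norm_of_le (zpowers_le.2 (self_mem_cent1 a)))
    (mem_zpowers a))).2 fun w hw => ⟨cm_le n (cm_mem hw), mem_cent1.2 ?_⟩
  have k := e.abel.mul_comm hw (conj_mem_of_norm n hw)
  simp only [commutatorElement_def, inv1 e hw, inv_eq_of_mul_eq_one_right tt] at k ⊢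
  calc _ = w * (a * w * a) * a := by simp only [mul_assoc]
    _ = _ := by rw [k]; simp only [mul_assoc]

theorem three_le {b : Γ} (ha : a ∈ F) (hb : b ∈ F) (a1 : a ≠ 1) (b1 : b ≠ 1) (ab : a ≠ b) : 2 < ♯F := by
  have hs : ({1, a, b} : Set Γ) ⊆ F := by
    rintro _ (rfl | rfl | rfl)
    exacts [one_mem F, ha, hb]
  have := Set.ncard_le_ncard hs
  rwa [Set.ncard_insert_of_notMem (by simp [a1.symm, b1.symm]), Set.ncard_pair ab] at this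

/-- a faithful module without normal `2`-subgroups -/
structure FM (K W A : Subgroup Γ) : Prop where
  fk : Fp K A
  sol : Sol K
  fw : Nf W K A
  e : Abelem 2 W
  n : K ≤ 𝐍 W
  f : K ⊓ 𝐂 W = ⊥
  o : 𝐎 {2} K = ⊥

/-- a hyperplane `F` of `E` and an element of the Fitting subgroup inverted by `E ∖ F` -/
structure Hy (K E F : Subgroup Γ) (y : Γ) : Prop where
  le : F ≤ E
  card : ♯E = 2 * ♯F
  mem : y ∈ 𝐅 K
  ne : y ≠ 1
  c : F ≤ 𝐂₁ y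
  i : ∀ a ∈ E, a ∉ F → a * y * a⁻¹ = y⁻¹

namespace FM
variable (h : FM K W A)
include h

theorem F_odd : PiGrp {2}ᶜ (𝐅 K) := by
  have := (F_nil K).hall_O {2}
  rw [O_F, h.o] at this
  exact this.pi'_of_eq_bot

theorem odd (hy : y ∈ 𝐅 K) : Odd (orderOf y) := pi_odd (h.F_odd.elt hy)

theorem pi_idx (X : Subgroup Γ) (hV : V ≤ W) : PiNat {2} (X.relIndex V) :=
  PiNat.dvd (h.e.pi.le hV) (relIndex_dvd_card X V)

theorem big (hy : y ∈ K) (o : Odd (orderOf y)) (y1 : y ≠ 1) : 8 ≤ ♯⁅W, zpowers y⁆ := by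
  rw [card_cm h.e.abel (h.n hy)]
  refine two_mul_le (m := 4) (piNat_pow_self Nat.prime_two 2) (h.pi_idx _ le_rfl) (by omega) ?_
  by_contra! c
  exact y1 (eq_one_of_mem_bot h.f ⟨hy, s4e h.sol h.fw h.e h.n hy o c⟩)

theorem big3 (hy : y ∈ K) (o : PiElt {3} y) (y1 : y ≠ 1) : 16 ≤ ♯⁅W, zpowers y⁆ := by
  have o2 : Odd (orderOf y) := pi_odd (o.of_single' (by simp))
  have h1 := h.big hy o2 y1
  have h2 := BG2.card_modEq_card_cent Nat.prime_three (piGrp_zpowers.2 o) (norm_comm_right W _)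
  rw [h.e.abel.comm_inf_cent (zpowers_le.2 (h.n hy)) (odd_cop o2 h.e.pi), card_bot] at h2
  refine two_mul_le (m := 8) (piNat_pow_self Nat.prime_two 3) (h.e.pi.le (cm_le (h.n hy)))
    (by omega) (lt_of_le_of_ne h1 fun e => ?_)
  rw [← e] at h2
  exact absurd h2 (by decide)

theorem fix (hy : y ∈ K) (o : Odd (orderOf y)) (y1 : y ≠ 1) (hE : E ≤ K) (k : PiGrp {2} E)
    (n : E ≤ 𝐍 (zpowers y)) : ∃ v ∈ ⁅W, zpowers y⁆, v ∈ 𝐂 E ∧ v ∉ 𝐂₁ y := by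
  obtain ⟨v, hv, v1⟩ := exists_mem_ne_one (k.inf_cent_ne_bot (h.e.pi.le (cm_le (h.n hy)))
    (norm_commutator (hE.trans h.n) n) (one_lt_card.1 (by have := h.big hy o y1; omega)))
  exact ⟨v, hv.1, hv.2, fun c => v1 (cm_fix h.e (h.n hy) o hv.1 c)⟩

theorem hyp (hE : E ≤ K) (e : Abelem 2 E) (ht : t ∈ E) (t1 : t ≠ 1) : ∃ F y, Hy K E F y ∧ t ∉ F := by
  have tt := sq1 e ht
  obtain ⟨m, hm⟩ : ∃ m, logn 2 (♯E) = m + 1 :=
    Nat.exists_eq_succ_of_ne_zero (e.pi.logn_pos.2 (ne_bot_of_mem ht t1)).ne'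
  have el : Elem 2 (m + 1) E K := hm ▸ e.elem hE
  have : ¬ 𝐅 K ≤ 𝐂₁ t := fun c => t1 ((piElt_of_pow_eq_one Nat.prime_two (e.pow t ht)).eq_one
    (h.F_odd.elt (h.sol.cent_F_le ⟨hE ht, le_cent1_iff.1 c⟩)))
  obtain ⟨F, hF, hc⟩ : ∃ F, Elem 2 m F E ∧ ¬ 𝐅 K ⊓ 𝐂 F ≤ 𝐂₁ t := by
    by_contra! c
    exact this (el.le_of_cent (hE.trans (F_normal K).norm) h.F_odd c)
  obtain ⟨c, hc, ct⟩ := SetLike.not_le_iff_exists.1 hc
  obtain ⟨hc, cF⟩ := mem_inf.1 hc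
  have tF : t ∉ F := fun q => ct (cent_le_cent1 q cF)
  have cy : F ≤ 𝐂₁ ⁅c, t⁆ := by
    have : t ∈ 𝐂 F := e.abel.cent le_rfl hF.le ht
    exact le_cent1_iff.2 (mul_mem (mul_mem (mul_mem cF this) (inv_mem cF)) (inv_mem this))
  have ty : t * ⁅c, t⁆ * t⁻¹ = ⁅c, t⁆⁻¹ := by
    simp only [commutatorElement_def, mul_inv_rev, inv_inv, inv_eq_of_mul_eq_one_right tt]
    calc _ = t * c * t * c⁻¹ * (t * t) := by group
      _ = _ := by rw [tt]; group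
  refine ⟨F, ⁅c, t⁆, ⟨hF.le, by rw [el.card, hF.card, pow_succ'], ?_, fun q => ct (mem_cent1.2
    (commutatorElement_eq_one_iff_mul_comm.1 q)), cy, fun a ha aF => ?_⟩, tF⟩
  · have := mul_mem hc (conj_mem_of_norm ((F_normal K).norm (hE ht)) (inv_mem hc))
    rwa [← mul_assoc, ← mul_assoc] at this
  · have i2 : (F.subgroupOf E).index = 2 := (el.relIndex hF).trans (pow_one 2)
    have : a * t ∈ F := (mul_mem_iff_of_index_two i2 (a := ⟨a, ha⟩) (b := ⟨t, ht⟩)).2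
      ⟨fun q => absurd q aF, fun q => absurd q tF⟩
    have k := mem_cent1.1 (cy this)
    calc _ = a * (t * t) * ⁅c, t⁆ * (a * (t * t))⁻¹ := by rw [tt, mul_one]
      _ = a * t * (t * ⁅c, t⁆ * t⁻¹) * (a * t)⁻¹ := by simp only [mul_assoc, mul_inv_rev]
      _ = (a * t * ⁅c, t⁆ * (a * t)⁻¹)⁻¹ := by rw [ty]; simp only [mul_assoc, mul_inv_rev, inv_inv]
      _ = _ := by rw [k, mul_inv_cancel_right]

theorem step (hE : E ≤ K) (e : Abelem 2 E) (H : Hy K E F y) (ht : t ∈ E) (tF : t ∉ F) :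
    (𝐂₁ y).relIndex (𝐂 F ⊓ W) ≤ (𝐂 E).relIndex (𝐂 F ⊓ W) * (𝐂 E).relIndex (𝐂 F ⊓ W) ∧
      2 ≤ (𝐂 E).relIndex (𝐂 F ⊓ W) ∧
      (𝐂 E).relIndex (𝐂 F ⊓ W) * (𝐂 F).relIndex W = (𝐂 E).relIndex W := by
  have hy := F_le K H.mem
  have cy : y ∈ 𝐂 F := le_cent1_iff.1 H.c
  have h1 := inv_idx (V := 𝐂 F ⊓ W) (norm_inf (zpowers_le.2 (le_norm_self _ cy))
    (zpowers_le.2 (h.n hy)) (mem_zpowers y)) (h.odd H.mem) (sq1 e ht) (H.i t ht tF)
  have h2 : (𝐂₁ t).relIndex (𝐂 F ⊓ W) ≤ (𝐂 E).relIndex (𝐂 F ⊓ W) :=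
    Nat.le_of_dvd (relIndex_pos _ _) (relIndex_dvd_left _ (cent_le_cent1 ht))
  have h3 := h1.trans (Nat.mul_le_mul h2 h2)
  refine ⟨h3, ?_, by rw [relIndex_inf_mul_relIndex, inf_eq_left.2 (cent_anti H.le)]⟩
  obtain ⟨v, hv, v1, v2⟩ := h.fix hy (h.odd H.mem) H.ne (H.le.trans hE) (e.pi.le H.le)
    (norm_of_cent (cent_zpowers y ▸ H.c))
  have h4 : (𝐂₁ y).relIndex (𝐂 F ⊓ W) ≠ 1 := fun q =>
    v2 (relIndex_eq_one.1 q ⟨v1, cm_le (h.n hy) hv⟩)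
  have := relIndex_pos (𝐂₁ y) (𝐂 F ⊓ W)
  by_contra! c
  nlinarith [Nat.le_of_lt_succ c, lt_of_le_of_ne this h4.symm]

theorem nf (E : Subgroup Γ) : E ≤ K → Abelem 2 E → (𝐂 E).relIndex W ≤ ♯E → E = ⊥ := by
  induction E using card_induction with
  | h E ih =>
    intro hE e c
    by_contra E1
    obtain ⟨t, ht, t1⟩ := exists_mem_ne_one E1
    obtain ⟨F, y, H, tF⟩ := h.hyp hE e ht t1
    obtain ⟨h1, h2, h3⟩ := h.step hE e H ht tF
    have := card_pos' F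
    have h4 := H.card
    by_cases F1 : F = ⊥
    · subst F1
      rw [cent_bot, top_inf_eq, ← card_cm h.e.abel (h.n (F_le K H.mem))] at h1
      have := h.big (F_le K H.mem) (h.odd H.mem) H.ne
      rw [card_bot] at h4
      nlinarith
    have h5 := two_mul_le (e.pi.le H.le) (h.pi_idx (𝐂 F) le_rfl) this.ne'
      (not_le.1 fun q => F1 (ih F (by omega) (H.le.trans hE) (e.le H.le) q))
    nlinarith

theorem step1 (hE : E ≤ K) (e : Abelem 2 E) (H : Hy K E F y) (ht : t ∈ E) (tF : t ∉ F)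
    (c : (𝐂 E).relIndex W ≤ 2 * ♯E) (b : 2 < ♯E) :
    (𝐂₁ y).relIndex (𝐂 F ⊓ W) ≤ 4 ∧ (𝐂 F).relIndex W = ♯E := by
  obtain ⟨h1, h2, h3⟩ := h.step hE e H ht tF
  have h4 := H.card
  have h5 := two_mul_le (e.pi.le H.le) (h.pi_idx (𝐂 F) le_rfl) (card_ne_zero' F)
    (not_le.1 fun q => one_lt_card.1 (by omega) (h.nf F (H.le.trans hE) (e.le H.le) q))
  have h6 : (𝐂 E).relIndex (𝐂 F ⊓ W) ≤ 2 := by nlinarith
  exact ⟨by nlinarith, by nlinarith⟩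

theorem four1 (hE : E ≤ K) (e : Abelem 2 E) (c : (𝐂 E).relIndex W ≤ 8) (b : ♯E = 4) (ht : t ∈ E)
    (t1 : t ≠ 1) : ∃ a ∈ E, a ≠ 1 ∧ a ≠ t ∧ ∃ y ∈ 𝐅 K, y ≠ 1 ∧ y ^ 3 = 1 ∧ a ∈ 𝐂₁ y ∧
      (∀ b ∈ E, b ≠ 1 → b ≠ a → b * y * b⁻¹ = y⁻¹) ∧ ♯⁅W, zpowers a⁆ = 4 ∧ ♯⁅W, zpowers y⁆ = 16 ∧
      ⁅W, zpowers a⁆ ≤ ⁅W, zpowers y⁆ ∧ y ∈ 𝐍 ⁅W, zpowers a⁆ := by
  obtain ⟨F, y, H, tF⟩ := h.hyp hE e ht t1
  obtain ⟨h1, h2⟩ := h.step1 hE e H ht tF (by omega) (by omega)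
  have h3 : ♯F = 2 := by have := H.card; omega
  obtain ⟨a, ha, a1⟩ := exists_mem_ne_one (H := F) (one_lt_card.1 (by omega))
  obtain rfl := zpowers_eq_of_prime (h3 ▸ Nat.prime_two) ha a1
  have hy := F_le K H.mem
  have o := h.odd H.mem
  have aE := H.le ha
  have na := h.n (hE aE)
  have ny := h.n hy
  have ay : a ∈ 𝐂₁ y := H.c ha
  rw [cent_zpowers] at h1 h2
  rw [b] at h2
  have nV : y ∈ 𝐍 (⁅W, zpowers y⁆ ⊓ 𝐂₁ a) := norm_inf (norm_comm_right W _)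
    (zpowers_le.2 (le_norm_self _ (mem_cent1_comm.1 ay))) (mem_zpowers y)
  have fV : ∀ v ∈ ⁅W, zpowers y⁆ ⊓ 𝐂₁ a, v ∈ 𝐂₁ y → v = 1 := fun v hv => cm_fix h.e ny o hv.1
  have cV : ♯(⁅W, zpowers y⁆ ⊓ 𝐂₁ a) ≤ 4 := by
    rw [← relIndex_of_inf_bot (K := 𝐂₁ y) (eq_bot_of_forall fun v hv => fV v hv.2 hv.1)]
    exact (relIndex_le_of_le_right (le_inf inf_le_right (inf_le_left.trans (cm_le ny)))
      (relIndex_ne_zero' _ _)).trans h1
  have orb := fun v => four_orb (a := v) nV o fV cV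
  have fx := fun z (hz : z ∈ zpowers y) z1 => h.fix (zpowers_le.2 hy hz)
    (o.of_dvd_nat (orderOf_dvd_of_mem_zpowers hz)) z1 (H.le.trans hE) (e.pi.le H.le)
    (norm_of_cent (cent_mono (cent_zpowers y ▸ H.c) le_rfl (zpowers_le.2 hz)))
  have y3 : y ^ 3 = 1 := by
    by_contra q
    obtain ⟨v, hv, v1, v2⟩ := fx _ (pow_mem (mem_zpowers y) 3) q
    have hV : v ∈ ⁅W, zpowers y⁆ ⊓ 𝐂₁ a := ⟨commutator_mono le_rfl
      (zpowers_le.2 (pow_mem (mem_zpowers y) 3)) hv, cent_zpowers a ▸ v1⟩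
    have v0 : v ≠ 1 := fun q => v2 (q ▸ one_mem _)
    rcases (orb v hV v0).2 _ (conj_mem_of_norm (pow_mem nV 3) hV) with k | k | k | k
    · exact v0 (conj_eq_one_iff.1 k)
    · exact v2 (mem_cent1.2 (mul_inv_eq_iff_eq_mul.1 k).symm)
    · refine v0 (fV v hV (cent1_sq o ▸ mem_cent1.2 ?_))
      calc _ = y⁻¹ * (y * v * y⁻¹) * y ^ 3 := by simp [mul_assoc, pow_succ]
        _ = _ := by rw [← k]; simp [mul_assoc, pow_succ]
    · refine v0 (fV v hV (mem_cent1.2 ?_))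
      calc _ = (y * y)⁻¹ * (y * y * v * (y * y)⁻¹) * y ^ 3 := by simp [mul_assoc, pow_succ]
        _ = _ := by rw [← k]; simp [mul_assoc, pow_succ]
  obtain ⟨v, hv, v1, v2⟩ := fx _ (mem_zpowers y) H.ne
  have c4 := (orb v ⟨hv, cent_zpowers a ▸ v1⟩ fun q => v2 (q ▸ one_mem _)).1
  have c5 := card_inf_mul_relIndex (𝐂₁ a) ⁅W, zpowers y⁆
  rw [inf_comm, c4] at c5
  have c6 := h.big3 hy (piElt_of_pow_eq_one Nat.prime_three y3) H.ne
  have c7 : (𝐂₁ a).relIndex ⁅W, zpowers y⁆ ≤ 4 :=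
    (relIndex_le_of_le_right (cm_le ny) (relIndex_ne_zero' _ _)).trans h2.le
  have na' : a ∈ 𝐍 ⁅W, zpowers y⁆ := norm_commutator (zpowers_le.2 na)
    (norm_of_cent (cent_zpowers y ▸ H.c)) (mem_zpowers a)
  have c8 : ♯⁅W, zpowers a⁆ = 4 := by rw [card_cm h.e.abel na, h2]
  have c9 : ⁅W, zpowers a⁆ ≤ ⁅W, zpowers y⁆ := by
    refine (eq_of_card_le (commutator_mono (cm_le ny) le_rfl) ?_).ge.trans (cm_le na')
    rw [c8, card_cm (h.e.abel.mono (cm_le ny)) na']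
    omega
  refine ⟨a, aE, a1, fun q => tF (q ▸ ha), y, H.mem, H.ne, y3, ay, fun b hb b1 ba => H.i b hb fun q => ?_,
    c8, by omega, c9, ?_⟩
  · exact absurd (three_le q ha b1 a1 ba) (by omega)
  · rwa [eq_of_card_eq (le_inf c9 ((cm_cent h.e na (sq1 e aE)).trans inf_le_right)) (c8.trans c4.symm)]

theorem card_pair (ha : a ∈ K) (hy : y ∈ K) (c : ♯⁅W, zpowers a⁆ = 4) :
    ♯(⁅W, zpowers a⁆ ⊔ cj y ⁅W, zpowers a⁆) * ♯(⁅W, zpowers a⁆ ⊓ cj y ⁅W, zpowers a⁆) = 16 := by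
  rw [card_sup_mul_card_inf (Or.inl (norm_of_cent (h.e.abel.cent (cm_le (h.n ha))
    (cj_le_of_norm (h.n hy) (cm_le (h.n ha)))))), card_cj, c]

theorem four (hE : E ≤ K) (e : Abelem 2 E) (c : (𝐂 E).relIndex W ≤ 8) (b : ♯E = 4) : False := by
  obtain ⟨t, ht, t1⟩ := exists_mem_ne_one (H := E) (one_lt_card.1 (by omega))
  obtain ⟨a, ha, a1, -, y, hy, y1, y3, ay, iy, ca, cy, ly, ny⟩ := h.four1 hE e c b ht t1
  obtain ⟨a', ha', a1', aa, y', hy', y1', y3', -, iy', ca', cy', ly', -⟩ := h.four1 hE e c b ha a1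
  have full : ∀ {a y}, a ∈ E → y ∈ 𝐅 K → a * y * a⁻¹ = y⁻¹ → ♯⁅W, zpowers a⁆ = 4 →
      ♯⁅W, zpowers y⁆ = 16 → ⁅W, zpowers y⁆ = ⁅W, zpowers a⁆ ⊔ cj y ⁅W, zpowers a⁆ := by
    intro a y ha hy i ca cy
    refine eq_of_card_le (inv_cm (h.n (hE ha)) (h.n (F_le K hy)) (h.odd hy) (sq1 e ha) i) ?_
    have := h.card_pair (hE ha) (F_le K hy) ca
    have := card_pos' (⁅W, zpowers a⁆ ⊓ cj y ⁅W, zpowers a⁆)
    nlinarith
  have f1 := full ha' hy (iy a' ha' a1' aa) ca' cy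
  have f2 := full ha hy' (iy' a ha a1 aa.symm) ca cy'
  have w1 := cm_le (h.n (F_le K hy))
  have w2 := cm_le (h.n (F_le K hy'))
  have h1 : ⁅W, zpowers a⁆ < ⁅W, zpowers y⁆ ⊓ ⁅W, zpowers y'⁆ := by
    refine lt_of_le_of_ne (le_inf ly (f2 ▸ le_sup_left)) fun q => ?_
    have := eq_of_card_eq ((le_inf (f1 ▸ le_sup_left) ly').trans q.ge) (ca'.trans ca.symm)
    rw [this, cj_of_norm ny, sup_idem] at f1
    rw [f1] at cy
    omega
  have h2 := two_mul_le (h.e.pi.le (cm_le (h.n (hE ha)))) (h.e.pi.le (inf_le_left.trans w1))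
    (card_ne_zero' _) (card_lt h1)
  have h3 := card_sup_mul_card_inf (Or.inl (norm_of_cent (h.e.abel.cent w1 w2)))
  set U := ⁅W, zpowers y⁆ ⊔ ⁅W, zpowers y'⁆
  have hU : U ≤ W := sup_le w1 w2
  have hP : zpowers y ⊔ zpowers y' ≤ 𝐎 {3} (𝐅 K) := sup_le
    (zpowers_le.2 ((F_nil K).mem_O hy (piElt_of_pow_eq_one Nat.prime_three y3)))
    (zpowers_le.2 ((F_nil K).mem_O hy' (piElt_of_pow_eq_one Nat.prime_three y3')))
  set P := zpowers y ⊔ zpowers y'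
  have p3 : PiGrp {3} P := (O_pi _ _).le hP
  have PK : P ≤ K := hP.trans ((O_le _ _).trans (F_le K))
  have PM : P ≤ centMod W U :=
    sup_le (zpowers_le.2 (mem_cM hU le_sup_left)) (zpowers_le.2 (mem_cM hU le_sup_right))
  have nP := PM.trans (centMod_le_norm _ _)
  have h4 := BG2.card_modEq_card_cent Nat.prime_three p3 nP
  rw [eq_bot_mono (h.e.abel.comm_inf_cent (PK.trans h.n)
    (PiNat.coprime' (p3.of_single_ne (by decide)) h.e.pi)) (inf_le_inf_right _ (sup_le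
      (commutator_mono le_rfl le_sup_left) (commutator_mono le_rfl le_sup_right))), card_bot] at h4
  have h5 : ♯U ≤ 16 := by
    by_contra! q
    have := two_mul_le (piNat_pow_self Nat.prime_two 4) (h.e.pi.le hU) (by omega) q
    rw [show ♯U = 32 by nlinarith] at h4
    exact absurd h4 (by decide)
  have rg : Reg U P := reg_of_forall fun k hk k1 v hv q => by
    have := eq_of_card_le (of_cM (PM hk)) (h5.trans (h.big3 (PK hk) (p3.elt hk) k1))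
    exact cm_fix h.e (h.n (PK hk)) (pi_odd ((p3.elt hk).of_single' (by simp))) (this ▸ hv)
      (mem_cent1.2 q.symm)
  have h6 := rg.card_dvd nP
  rw [le_antisymm h5 (cy ▸ card_le le_sup_left)] at h6
  have h7 : zpowers y < P := lt_of_le_of_ne le_sup_left fun q => by
    have k : y' ∈ 𝐂₁ a := zpowers_le.2 (mem_cent1_comm.1 ay) (q.ge (mem_sup_right (mem_zpowers y')))
    have k2 := iy' a ha a1 aa.symm
    rw [← mem_cent1.1 k, mul_inv_cancel_right, eq_inv_iff_mul_eq_one] at k2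
    rw [pow_succ, pow_two, k2, one_mul] at y3'
    exact y1' y3'
  have h8 := card_lt h7
  rw [Nat.card_zpowers, orderOf_eq_of_pow Nat.prime_three y3 y1] at h8
  obtain ⟨i, hi⟩ := p3.card_pow
  rw [hi] at h6 h8
  have : 3 ^ 2 ∣ 3 ^ i := pow_dvd_pow 3 ((Nat.pow_lt_pow_iff_right (a := 3) (m := i) (n := 1) (by omega)).1 h8)
  exact absurd (this.trans h6) (by decide)

theorem f1 (E : Subgroup Γ) : E ≤ K → Abelem 2 E → (𝐂 E).relIndex W ≤ 2 * ♯E → ♯E ≤ 2 := by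
  induction E using card_induction with
  | h E ih =>
    intro hE e c
    by_contra! b
    obtain ⟨t, ht, t1⟩ := exists_mem_ne_one (H := E) (one_lt_card.1 (by omega))
    obtain ⟨F, y, H, tF⟩ := h.hyp hE e ht t1
    have h1 := (h.step1 hE e H ht tF c b).2
    have h2 := H.card
    have := ih F (by omega) (H.le.trans hE) (e.le H.le) (by omega)
    exact h.four hE e (by omega) (by omega)

theorem t4a (ha : a ∈ K) (hy : y ∈ K) (o : Odd (orderOf y)) (y1 : y ≠ 1) (tt : a * a = 1)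
    (i : a * y * a⁻¹ = y⁻¹) (c : (𝐂₁ a).relIndex W = 4) : W ⊓ 𝐂₁ y ≤ 𝐂₁ a := by
  intro v hv
  by_contra q
  have h1 : ⁅v, a⁆ ∈ 𝐂₁ y := by
    have := mul_mem hv.2 (conj_mem_of_norm (cent_zpowers y ▸ norm_le_norm_cent _ (inv_norm i))
      (inv_mem (mem_inf.1 hv).2))
    rwa [← mul_assoc, ← mul_assoc] at this
  have h2 : ⁅v, a⁆ ≠ 1 := fun k => q (mem_cent1.2 (commutatorElement_eq_one_iff_mul_comm.1 k))
  have h3 : ⁅v, a⁆ ∈ ⁅W, zpowers a⁆ ⊓ cj y ⁅W, zpowers a⁆ := ⟨cm_mem hv.1, mem_cj.2 (by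
    rw [mul_assoc, mem_cent1.1 h1, inv_mul_cancel_left]; exact cm_mem hv.1)⟩
  have h4 := h.card_pair ha hy ((card_cm h.e.abel (h.n ha)).trans c)
  have h5 := one_lt_card.2 (ne_bot_of_mem h3 h2)
  have h6 := h.big hy o y1
  have := eq_of_card_le (inv_cm (h.n ha) (h.n hy) o tt i) (by nlinarith)
  exact h2 (cm_fix h.e (h.n hy) o (this ▸ mem_sup_left h3.1) h1)

theorem t4 (hE : E ≤ K) (n : A ≤ 𝐍 E) (e : Abelem 2 E) (ht : t ∈ E) : (𝐂₁ t).relIndex W ≠ 4 := by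
  intro c
  have ne : ∀ {a : Γ}, (𝐂₁ a).relIndex W = 4 → a ≠ 1 := fun c q => by simp [q] at c
  obtain ⟨F, y, H, tF⟩ := h.hyp hE e ht (ne c)
  have hy := F_le K H.mem
  have o := h.odd H.mem
  refine tF (h.fk.pf0 (s := {a | a ∈ E ∧ (𝐂₁ a).relIndex W = 4})
    (fun a ha b hb => e.abel.mul_comm ha.1 hb.1) (fun a ha => hE ha.1) (fun a ha => sq1 e ha.1) (fun g hg a ha =>
      ⟨conj_mem_of_norm (n hg) ha.1, ?_⟩) ⟨ht, c⟩ fun a ha at' => ?_)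
  · rw [← cj_cent1, ← cj_of_norm (h.fw.norm hg), relIndex_cj]; exact ha.2
  by_contra aF
  have hX : zpowers t ⊔ zpowers a ≤ E := sup_le (zpowers_le.2 ht) (zpowers_le.2 ha.1)
  have h1 : W ⊓ 𝐂₁ y ≤ 𝐂 (zpowers t ⊔ zpowers a) := by
    rw [cent_sup, cent_zpowers, cent_zpowers]
    exact le_inf (h.t4a (hE ht) hy o H.ne (sq1 e ht) (H.i t ht tF) c)
      (h.t4a (hE ha.1) hy o H.ne (sq1 e ha.1) (H.i a ha.1 aF) ha.2)
  obtain ⟨v, hv, v1, v2⟩ := h.fix hy o H.ne (hX.trans hE) (e.pi.le hX)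
    (sup_le (zpowers_le.2 (inv_norm (H.i t ht tF))) (zpowers_le.2 (inv_norm (H.i a ha.1 aF))))
  set X := zpowers t ⊔ zpowers a
  have h2 := inv_idx (h.n hy) o (sq1 e ht) (H.i t ht tF)
  have h3 := relIndex_inf_mul_relIndex (𝐂₁ y) (𝐂 X) W
  rw [← inf_relIndex_right (𝐂₁ y ⊓ 𝐂 X), inf_right_comm,
    inf_eq_left.2 ((inf_comm (𝐂₁ y) W).le.trans h1), inf_relIndex_right (𝐂₁ y)] at h3
  have h4 : (𝐂₁ y).relIndex (𝐂 X ⊓ W) ≠ 1 := fun q =>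
    v2 (relIndex_eq_one.1 q ⟨v1, cm_le (h.n hy) hv⟩)
  have h5 := lt_of_le_of_ne (relIndex_pos (𝐂₁ y) (𝐂 X ⊓ W)) h4.symm
  have h6 : 2 < ♯X := three_le (mem_sup_left (mem_zpowers t)) (mem_sup_right (mem_zpowers a)) (ne c)
    (ne ha.2) at'.symm
  have h7 := two_mul_le (piNat_self Nat.prime_two) (e.pi.le hX) two_ne_zero h6
  rw [c] at h2
  exact absurd (h.f1 X (hX.trans hE) (e.le hX) (by nlinarith)) (by omega)

end FM

/-! ### back from the faithful model -/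

theorem fm_bar (hK : Fp K A) (s : Sol K) (hW : Nf W K A) (e : Abelem 2 W) (n : K ≤ 𝐍 W)
    (red : ∀ D, D ⊴ K → PiNat {2} ((𝐂 W).relIndex D) → D ≤ 𝐂 W) :
    FM (bar W K) (hat W W) (bar W A) := by
  refine ⟨fp_bar hK n hW.norm, sol_bar s n, fp_hat hW n, ab_hat e, Loc.bar_le_normalizer_hat K,
    Loc.bar_inf_centralizer_hat n, ?_⟩
  have h1 := Loc.bar_unbar (O_le {2} (bar W K))
  have h2 : K ⊓ Loc.unbar W (𝐎 {2} (bar W K)) ≤ 𝐍 W := inf_le_left.trans n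
  rw [← h1, Loc.bar_eq_bot_iff h2]
  refine red _ (normalIn_inf_left (Loc.le_normalizer_unbar n (O_normal _ _).norm)) ?_
  rw [← Loc.card_bar h2, h1]
  exact O_pi _ _

theorem idx_bar (n : E ≤ 𝐍 W) : (𝐂 (bar W E)).relIndex (hat W W) = (𝐂 E).relIndex W := by
  have h1 := card_inf_mul_relIndex (𝐂 (bar W E)) (hat W W)
  have h2 := card_inf_mul_relIndex (𝐂 E) W
  rw [inf_comm, Loc.hat_inf_centralizer n, Loc.card_hat inf_le_left, Loc.card_hat le_rfl] at h1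
  rw [inf_comm] at h2
  exact Nat.eq_of_mul_eq_mul_left (card_pos' _) (h1.trans h2.symm)

theorem wh_of (hK : Fp K A) (s : Sol K) (hW : Nf W K A) (e : Abelem 2 W) (n : K ≤ 𝐍 W) (hT : T ≤ K)
    (red : ∀ D, D ⊴ K → PiNat {2} ((𝐂 W).relIndex D) → D ≤ 𝐂 W) : Wh T W A := by
  have h := fm_bar hK s hW e n red
  have ab : ∀ {E : Subgroup Γ}, Abelem 2 E → Abelem 2 (bar W E) := fun e =>
    .of_isEA Nat.prime_two (FF.isElemAb_bar e.isEA)
  refine ⟨fun E hE a c => ?_, fun E hE a c => ?_, fun E hE nE a b t ht => ?_⟩ <;>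
    have m : E ≤ 𝐍 W := hE.trans (hT.trans n)
  · rw [← Loc.bar_eq_bot_iff m]
    exact h.nf _ (Loc.bar_mono (hE.trans hT)) (ab a) (by rwa [idx_bar m, Loc.card_bar m])
  · rw [← Loc.card_bar m]
    exact h.f1 _ (Loc.bar_mono (hE.trans hT)) (ab a) (by rwa [idx_bar m, Loc.card_bar m])
  · rw [← cent_zpowers, ← idx_bar (zpowers_le.2 (m ht)), FF.bar_zpowers' (m ht), cent_zpowers]
    refine h.t4 (Loc.bar_mono (hE.trans hT)) (Loc.bar_le_normalizer_bar hW.norm nE)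
      (.mk' Nat.prime_two ?_ fun x hx => ?_) (FF.pb_mem m ht)
    · rw [← der_eq_bot, ← Loc.bar_commutator m m, Loc.bar_eq_bot_iff ((der_le E).trans m)]
      exact a
    · obtain ⟨g, hg, rfl⟩ := (FF.mem_bar_iff m).1 hx
      rw [pow_two, ← FF.pb_mul (m hg) (m hg), FF.pb_eq_one (mul_mem (m hg) (m hg))]
      exact b g hg

theorem MC.wh {G : Subgroup Γ} (h : MC G A T) : Wh T (WW G T) A :=
  wh_of h.fpM h.M_sol h.fpW (W_abelem G T) (M_norm G T) h.T_le_M fun _ => h.red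

end CF.Odc
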