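import Cfsg.Agent.Fpf.A

/-! Operator groups of odd order fixing no class of involutions: basic properties -/

set_option autoImplicit false

namespace CF.Odc
open Subgroup CF.BG
open scoped commutatorElement Pointwise

universe u
variable {Γ : Type*} [Group Γ] {Γ' : Type*} [Group Γ']

/-- `E` meets every coset `G a` -/
def Cv (G A E : Subgroup Γ) : Prop := ∀ a ∈ A, ∃ g ∈ G, g * a ∈ E

/-- no `K`-class of involutions of `U` is `A`-invariant -/
structure Nf (U K A : Subgroup Γ) : Prop where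
  norm : A ≤ 𝐍 U
  nK : A ≤ 𝐍 K
  nf : ∀ z ∈ U, z * z = 1 → Cv K A (𝐂₁ z) → z = 1

/-- `A` has odd order, normalizes `G`, and fixes no `G`-class of involutions -/
structure Fp (G A : Subgroup Γ) : Prop where
  norm : A ≤ 𝐍 G
  odd : PiGrp {2}ᶜ A
  nf : ∀ z ∈ G, z * z = 1 → Cv G A (𝐂₁ z) → z = 1

variable {G A B E F H K D U N L : Subgroup Γ}

theorem Cv.trans (h : Cv G A E) (k : Cv G E F) : Cv G A F := fun a ha =>
  let ⟨g, hg, e⟩ := h a ha
  let ⟨g', hg', e'⟩ := k _ e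
  ⟨g' * g, mul_mem hg' hg, by rwa [mul_assoc]⟩

theorem Cv.mono (h : Cv G A E) (l : G ≤ H) (m : E ≤ F) : Cv H A F := fun a ha =>
  let ⟨g, hg, e⟩ := h a ha
  ⟨g, l hg, m e⟩

theorem cv_of_le (h : A ≤ E) : Cv G A E := fun a ha => ⟨1, one_mem _, by rw [one_mul]; exact h ha⟩

theorem Cv.inf_sup (h : Cv G A E) : Cv G A (E ⊓ (G ⊔ A)) := fun a ha =>
  let ⟨g, hg, e⟩ := h a ha
  ⟨g, hg, e, mul_mem (mem_sup_left hg) (mem_sup_right ha)⟩

theorem cv_of_sup (h : E ≤ N ⊔ F) (n : F ≤ 𝐍 N) (l : N ≤ G) : Cv G E F := fun x hx => by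
  obtain ⟨a, ha, b, hb, rfl⟩ := (mem_sup_norm' n).1 (h hx)
  exact ⟨a⁻¹, inv_mem (l ha), by rwa [inv_mul_cancel_left]⟩

theorem cv_cent {z : Γ} (h : ∀ a ∈ A, ∃ g ∈ G, a * z * a⁻¹ = g * z * g⁻¹) : Cv G A (𝐂₁ z) :=
  fun a ha => by
    obtain ⟨g, hg, e⟩ := h a ha
    refine ⟨g⁻¹, inv_mem hg, mem_cent1.2 ?_⟩
    calc g⁻¹ * a * z = g⁻¹ * (a * z * a⁻¹) * a := by group
      _ = _ := by rw [e]; group

theorem Fp.mono (h : Fp G A) (hH : H ≤ G) (n : A ≤ 𝐍 H) : Fp H A :=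
  ⟨n, h.odd, fun z hz s c => h.nf z (hH hz) s (c.mono hH le_rfl)⟩

theorem Fp.toNf (h : Fp K A) (hU : U ≤ K) (n : A ≤ 𝐍 U) : Nf U K A :=
  ⟨n, h.norm, fun z hz => h.nf z (hU hz)⟩

theorem Nf.of_cv (h : Nf U K A) (c : Cv K A B) (hD : D ≤ K) (n : B ≤ 𝐍 U) (m : B ≤ 𝐍 D) :
    Nf U D B := ⟨n, m, fun z hz s k => h.nf z hz s (c.trans (k.mono hD le_rfl))⟩

theorem Fp.of_cv (h : Fp G A) (c : Cv G A B) (o : PiGrp {2}ᶜ B) (n : B ≤ 𝐍 G) : Fp G B :=
  ⟨n, o, fun z hz s k => h.nf z hz s (c.trans k)⟩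

theorem cv_map_iff {f : Γ →* Γ'} (hf : Function.Injective f) {z : Γ} :
    Cv (G.map f) (A.map f) (𝐂₁ (f z)) ↔ Cv G A (𝐂₁ z) := by
  constructor
  · intro h a ha
    obtain ⟨_, ⟨g, hg, rfl⟩, e⟩ := h _ (mem_map_of_mem f ha)
    refine ⟨g, hg, mem_cent1.2 (hf ?_)⟩
    simpa using mem_cent1.1 e
  · rintro h _ ⟨a, ha, rfl⟩
    obtain ⟨g, hg, e⟩ := h a ha
    exact ⟨_, mem_map_of_mem f hg, mem_cent1.2 (by simpa using congrArg f (mem_cent1.1 e))⟩

theorem fp_of_map {f : Γ →* Γ'} (hf : Function.Injective f) (h : Fp (G.map f) (A.map f)) :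
    Fp G A :=
  ⟨(map_norm_iff hf).1 h.norm, by have := h.odd; rwa [PiGrp, card_map hf] at this,
    fun z hz s c => hf ((h.nf _ (mem_map_of_mem f hz) (by rw [← map_mul, s, map_one])
      ((cv_map_iff hf).2 c)).trans (map_one f).symm)⟩

protected theorem Fp.subgroupOf (h : Fp G A) (hG : G ≤ L) (hA : A ≤ L) :
    Fp (G.subgroupOf L) (A.subgroupOf L) :=
  fp_of_map L.subtype_injective (by rwa [map_subgroupOf hG, map_subgroupOf hA])

variable [Finite Γ]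

/-- a covering subgroup contains a covering subgroup of odd order -/
theorem Cv.exists_odd (c : Cv G A E) (n : A ≤ 𝐍 G) (o : PiGrp {2}ᶜ A) :
    ∃ B, B ≤ E ∧ B ≤ 𝐍 G ∧ PiGrp {2}ᶜ B ∧ Cv G A B := by
  obtain ⟨B, l, h, m⟩ := exists_minimal (P := Cv G A) c.inf_sup
  have nG : G ⊔ A ≤ 𝐍 G := sup_le (le_norm_self G) n
  have l2 := l.trans inf_le_right
  refine ⟨B, l.trans inf_le_left, l2.trans nG, ?_, h⟩
  obtain ⟨P, hP⟩ := exists_syl 2 B
  have PG : P ≤ G := hP.pi.le_of_relIndex (hP.le.trans l2) nG (by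
    rw [relIndex_sup_norm' (.inl n)]; exact o.dvd (relIndex_dvd_card G A))
  have nN : B ⊓ G ⊴ B := ⟨inf_le_left, norm_inf (le_norm_self B) (l2.trans nG)⟩
  have e := (hP.of_le (le_inf hP.le PG) inf_le_left).syl_frattini_sup nN
  have e1 := m _ (h.trans (cv_of_sup e.ge (inf_le_left.trans nN.norm) inf_le_right)) inf_le_left
  obtain ⟨H, hH, k⟩ := hP.exists_compl (e1.ge.trans inf_le_right)
  exact m H (h.trans (cv_of_sup hH.sup.ge hH.norm PG)) k.le ▸ k.pi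

/-- an invariant nontrivial `2`-subgroup is not centralized modulo a proper subgroup -/
theorem Fp.le_comm (h : Fp G A) {P : Subgroup Γ} (hP : P ≤ G) (p : PiGrp {2} P) (n : A ≤ 𝐍 P) :
    P ≤ ⁅P, A⁆ := by
  have e := comm_sup_inf_cent n (PiNat.coprime' h.odd p) (.inr p.sol)
  by_cases c : P ⊓ 𝐂 A = ⊥
  · rw [c, sup_bot_eq] at e; exact e.ge
  obtain ⟨t, ht, o⟩ := exists_mem_orderOf_eq Nat.prime_two ((p.le inf_le_left).dvd_card c)
  have := h.nf t (hP ht.1) (by rw [← sq, ← o, pow_orderOf_eq_one])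
    (cv_of_le (le_cent1_iff.2 ht.2))
  rw [this, orderOf_one] at o
  omega

protected theorem Fp.map (h : Fp G A) (φ : Γ →* Γ') : Fp (G.map φ) (A.map φ) := by
  refine ⟨map_norm h.norm φ, h.odd.map φ, ?_⟩
  rintro _ ⟨z, hz, rfl⟩ s c
  obtain ⟨k, m, hm, e⟩ := Nat.exists_eq_two_pow_mul_odd (orderOf_pos z).ne'
  have e1 : φ (z ^ m) = φ z := by
    obtain ⟨j, rfl⟩ := hm
    rw [map_pow, pow_succ, pow_mul, sq, s, one_pow, one_mul]
  have p1 : PiElt {2} (z ^ m) := (piNat_pow_self Nat.prime_two k).dvd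
    (orderOf_dvd_of_pow_eq_one (by rw [← pow_mul, mul_comm, ← e, pow_orderOf_eq_one]))
  set Z := G ⊓ (zpowers (φ z)).comap φ
  obtain ⟨P, hP, l⟩ := exists_syl_le (M := Z) (zpowers_le.2 ⟨pow_mem hz m, by
    rw [coe_toSubmonoid, SetLike.mem_coe, mem_comap, e1]; exact mem_zpowers _⟩) p1.zpowers
  set E := (𝐂₁ (φ z)).comap φ ⊓ (G ⊔ A)
  have nG : G ⊔ A ≤ 𝐍 G := sup_le (le_norm_self G) h.norm
  have c1 : Cv G A E := Cv.inf_sup fun a ha => by
    obtain ⟨_, ⟨g, hg, rfl⟩, e⟩ := c _ (mem_map_of_mem φ ha)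
    exact ⟨g, hg, by rwa [mem_comap, map_mul]⟩
  have cz : ∀ x ∈ E, ∀ y ∈ Z, φ (x * y * x⁻¹) = φ y := fun x hx y hy => by
    have := mem_cent.1 (cent_zpowers (φ z) ▸ hx.1 : φ x ∈ 𝐂 (zpowers (φ z))) _ hy.2
    rw [map_mul, map_mul, ← this, map_inv, mul_inv_cancel_right]
  have nZ : Z ⊴ E := ⟨le_inf (fun y hy => (zpowers_le.2 (mem_cent1.2 rfl) : _ ≤ 𝐂₁ (φ z)) hy.2)
    (inf_le_left.trans le_sup_left), le_norm_iff.2 fun x hx y hy =>
      ⟨conj_mem_of_norm (nG hx.2) hy.1, by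
        rw [coe_toSubmonoid, SetLike.mem_coe, mem_comap, cz x hx y hy]; exact hy.2⟩⟩
  obtain ⟨B, b1, b2, b3, b4⟩ := (c1.trans (cv_of_sup (hP.syl_frattini_sup nZ).ge
    (inf_le_left.trans nZ.norm) inf_le_left)).exists_odd h.norm h.odd
  have k1 := (h.of_cv b4 b3 b2).le_comm (hP.le.trans inf_le_left) hP.pi (b1.trans inf_le_right)
  have k2 : ⁅P, B⁆ ≤ φ.ker := commutator_le.2 fun y hy x hx => by
    rw [MonoidHom.mem_ker, commutatorElement_def, mul_assoc, mul_assoc, ← mul_assoc x, map_mul,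
      cz x (b1 hx).1 _ (inv_mem (hP.le hy)), map_inv, mul_inv_cancel]
  rw [← e1]
  exact k2 (k1 (l (mem_zpowers _)))

protected theorem Fp.qt (h : Fp G A) (g : G ≤ 𝐍 N) (a : A ≤ 𝐍 N) : Fp (qt N G) (qt N A) :=
  (h.subgroupOf g a).map _

omit [Finite Γ] in
theorem sq_closure {s : Set Γ} (c : ∀ x ∈ s, ∀ y ∈ s, x * y = y * x) (q : ∀ x ∈ s, x * x = 1) :
    ∀ x ∈ closure s, x * x = 1 := by
  have c0 : closure s ≤ 𝐂 (closure s) := (closure_le _).2 fun x hx =>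
    le_cent1_iff.1 ((closure_le _).2 fun y hy => mem_cent1.2 (c y hy x hx))
  intro x hx
  induction hx using closure_induction with
  | mem x hx => exact q x hx
  | one => exact mul_one 1
  | mul x y hx hy a b =>
    calc x * y * (x * y) = x * (y * x) * y := by group
      _ = x * x * (y * y) := by rw [mem_cent.1 (c0 hx) y hy]; group
      _ = 1 := by rw [a, b, mul_one]
  | inv x _ a => rw [← mul_inv_rev, a, inv_one]

/-- in a commuting set of involutions whose stabilizer covers `A`, each element is a product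
of the others -/
theorem Nf.pf (h : Nf U K A) {s : Set Γ} (c : ∀ x ∈ s, ∀ y ∈ s, x * y = y * x)
    (hs : ∀ x ∈ s, x ∈ U) (q : ∀ x ∈ s, x * x = 1)
    (ha : ∀ a ∈ A, ∃ k ∈ K, ∀ x ∈ s, k * a * x * (k * a)⁻¹ ∈ s) {x : Γ} (hx : x ∈ s)
    {Y : Subgroup Γ} (hY : ∀ y ∈ s, y ≠ x → y ∈ Y) : x ∈ Y := by
  classical
  have hf := Set.toFinite s
  have c' : (hf.toFinset : Set Γ).Pairwise Commute := fun x hx y hy _ =>
    c x (by simpa using hx) y (by simpa using hy)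
  have h1 := h.nf (hf.toFinset.noncommProd id c')
    (noncommProd_mem U _ fun x hx => hs x (by simpa using hx))
    (sq_closure c q _ (noncommProd_mem _ _ fun x hx => subset_closure (by simpa using hx)))
    fun a a1 => by
      obtain ⟨k, hk, e⟩ := ha a a1
      exact ⟨k, hk, mem_cent1.2 (mul_inv_eq_iff_eq_mul.1 (Fpf.noncommProd_conj _ c'
        fun x hx => by simpa using e x (by simpa using hx)))⟩
  rw [← Finset.mul_noncommProd_erase _ (by simpa using hx : x ∈ hf.toFinset)] at h1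
  rw [id, mul_eq_one_iff_eq_inv] at h1
  rw [h1]
  refine inv_mem (noncommProd_mem Y _ fun y hy => ?_)
  rw [Finset.mem_erase] at hy
  exact hY y (by simpa using hy.2) hy.1

theorem Fp.pf0 (h : Fp G A) {s : Set Γ} (c : ∀ x ∈ s, ∀ y ∈ s, x * y = y * x)
    (hs : ∀ x ∈ s, x ∈ G) (q : ∀ x ∈ s, x * x = 1) (ha : ∀ a ∈ A, ∀ x ∈ s, a * x * a⁻¹ ∈ s)
    {x : Γ} (hx : x ∈ s) {Y : Subgroup Γ} (hY : ∀ y ∈ s, y ≠ x → y ∈ Y) : x ∈ Y :=
  (h.toNf le_rfl h.norm).pf c hs q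
    (fun a a1 => ⟨1, one_mem _, by simpa using ha a a1⟩) hx hY

omit [Finite Γ] in
theorem simul {ι : Type*} (x y : ι → Γ) (L : ι → Subgroup Γ) (hx : ∀ i, x i ∈ L i)
    (hd : ∀ i, ∃ d ∈ D ⊓ L i, d * x i * d⁻¹ = y i) (c : ∀ i j, i ≠ j → L i ≤ 𝐂 (L j))
    (s : Finset ι) : ∃ d ∈ D, (∀ i ∈ s, d * x i * d⁻¹ = y i) ∧ ∀ j ∉ s, d ∈ 𝐂 (L j) := by
  classical
  induction s using Finset.induction_on with
  | empty => exact ⟨1, one_mem _, by simp, fun _ _ => one_mem _⟩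
  | insert j s hj ih =>
    obtain ⟨d, a, b, e⟩ := ih
    obtain ⟨f, hf, k⟩ := hd j
    refine ⟨f * d, mul_mem hf.1 a, fun i hi => ?_, fun i hi => ?_⟩
    · rw [show f * d * x i * (f * d)⁻¹ = f * (d * x i * d⁻¹) * f⁻¹ by group]
      rcases Finset.mem_insert.1 hi with rfl | hi
      · rw [← mem_cent.1 (e i hj) _ (hx i), mul_inv_cancel_right, k]
      · obtain ⟨g, hg, k'⟩ := hd i
        have : y i ∈ L i := k' ▸ mul_mem (mul_mem hg.2 (hx i)) (inv_mem hg.2)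
        rw [b i hi, ← mem_cent.1 (c j i (fun q => hj (q ▸ hi)) hf.2) _ this, mul_inv_cancel_right]
    · rw [Finset.mem_insert, not_or] at hi
      exact mul_mem (c j i (Ne.symm hi.1) hf.2) (e i hi.2)

/-- the wreath argument -/
theorem Nf.wr (h : Nf U D A) (hB : B ≤ D) (nB : B ≤ L) {r : Γ} (hr : r ∈ U) (rL : r ∈ L)
    (q : r * r = 1) (k : ∀ a ∈ A, (a ∈ 𝐍 B ∧ a ∈ 𝐍 L ∧ ∃ d ∈ B, a * r * a⁻¹ = d * r * d⁻¹) ∨
      cj a L ≤ 𝐂 L) : r ∈ 𝐂 L := by
  classical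
  let P : Subgroup Γ :=
    { carrier := {a | a ∈ 𝐍 B ∧ a ∈ 𝐍 L ∧ ∃ d ∈ B, a * r * a⁻¹ = d * r * d⁻¹}
      one_mem' := ⟨one_mem _, one_mem _, 1, one_mem _, rfl⟩
      mul_mem' := by
        rintro a b ⟨a1, a2, d, hd, a3⟩ ⟨b1, b2, e, he, b3⟩
        refine ⟨mul_mem a1 b1, mul_mem a2 b2, a * e * a⁻¹ * d, mul_mem (conj_mem_of_norm a1 he) hd, ?_⟩
        calc _ = a * (b * r * b⁻¹) * a⁻¹ := by group
          _ = a * e * a⁻¹ * (a * r * a⁻¹) * (a * e * a⁻¹)⁻¹ := by rw [b3]; group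
          _ = _ := by rw [a3]; group
      inv_mem' := by
        rintro a ⟨a1, a2, d, hd, a3⟩
        refine ⟨inv_mem a1, inv_mem a2, a⁻¹ * d⁻¹ * a, conj_mem_of_norm' a1 (inv_mem hd), ?_⟩
        calc _ = a⁻¹ * d⁻¹ * (d * r * d⁻¹) * d * a := by group
          _ = _ := by rw [← a3]; group }
  let ι := A ⧸ P.subgroupOf A
  let t : ι → Γ := fun i => (i.out : A)
  have tA : ∀ i, t i ∈ A := fun i => i.out.2
  have c : ∀ i j : ι, i ≠ j → cj (t i) L ≤ 𝐂 (cj (t j) L) := fun i j ne => by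
    rcases k _ (mul_mem (inv_mem (tA j)) (tA i)) with e | e
    · refine absurd ?_ ne.symm
      rw [← j.out_eq, ← i.out_eq]
      exact QuotientGroup.eq.2 e
    · have := cj_mono (t j) e
      rwa [cj_cj, mul_inv_cancel_left, cj_cent] at this
  have mv : ∀ a ∈ A, ∀ i : ι, ∃ j : ι, (t j)⁻¹ * (a * t i) ∈ P := fun a ha i =>
    ⟨QuotientGroup.mk ⟨a * t i, mul_mem ha (tA i)⟩,
      (QuotientGroup.eq (s := P.subgroupOf A) (b := ⟨a * t i, mul_mem ha (tA i)⟩)).1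
        (Quotient.out_eq _)⟩
  have p0 : t (QuotientGroup.mk 1) ∈ P := by
    have : (1 : A)⁻¹ * (QuotientGroup.mk 1 : ι).out ∈ P.subgroupOf A :=
      QuotientGroup.eq.1 (Quotient.out_eq _).symm
    rwa [inv_one, one_mul] at this
  have key : t (QuotientGroup.mk 1) * r * (t (QuotientGroup.mk 1))⁻¹ ∈ 𝐂 L := by
    refine h.pf (s := Set.range fun i => t i * r * (t i)⁻¹) ?_ ?_ ?_ ?_ ⟨_, rfl⟩ ?_
    · rintro _ ⟨i, rfl⟩ _ ⟨j, rfl⟩
      by_cases e : i = j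
      · rw [e]
      · exact (mem_cent.1 (c i j e (conj_mem_cj.2 rL)) _ (conj_mem_cj.2 rL)).symm
    · rintro _ ⟨i, rfl⟩
      exact conj_mem_of_norm (h.norm (tA i)) hr
    · rintro _ ⟨i, rfl⟩
      calc _ = t i * (r * r) * (t i)⁻¹ := by group
        _ = 1 := by rw [q]; group
    · intro a ha
      choose σ hσ using mv a⁻¹ (inv_mem ha)
      obtain ⟨d, hd, e, -⟩ := simul (D := D) (fun i => t i * r * (t i)⁻¹)
        (fun i => a * (t (σ i) * r * (t (σ i))⁻¹) * a⁻¹) (fun i => cj (t i) L)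
        (fun i => conj_mem_cj.2 rL) (fun i => by
          obtain ⟨-, -, d, hd, e⟩ := P.inv_mem (hσ i)
          refine ⟨t i * d * (t i)⁻¹, ⟨conj_mem_of_norm (h.nK (tA i)) (hB hd),
            conj_mem_cj.2 (nB hd)⟩, ?_⟩
          calc _ = t i * (d * r * d⁻¹) * (t i)⁻¹ := by group
            _ = _ := by rw [← e]; group) c (Set.toFinite Set.univ).toFinset
      have inj : Function.Injective σ := fun i j e => by
        have := mul_mem (inv_mem (hσ i)) (e ▸ hσ j)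
        rw [← i.out_eq, ← j.out_eq]
        refine QuotientGroup.eq.2 ?_
        rw [show ((t (σ i))⁻¹ * (a⁻¹ * t i))⁻¹ * ((t (σ i))⁻¹ * (a⁻¹ * t j)) = (t i)⁻¹ * t j by
          group] at this
        exact this
      refine ⟨d⁻¹, inv_mem hd, ?_⟩
      rintro _ ⟨j, rfl⟩
      obtain ⟨i, rfl⟩ := Finite.surjective_of_injective inj j
      refine ⟨i, ?_⟩
      calc _ = d⁻¹ * (d * (t i * r * (t i)⁻¹) * d⁻¹) * d := by group
        _ = _ := by rw [e i (by simp)]; group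
    · rintro _ ⟨i, rfl⟩ ne
      have := c i (QuotientGroup.mk 1) (fun e => ne (by rw [e])) (conj_mem_cj.2 rL)
      rwa [cj_of_norm p0.2.1] at this
  have := conj_mem_of_norm' (norm_cent (le_refl (𝐍 L)) p0.2.1) key
  simpa [mul_assoc] using this

end CF.Odc
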