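import Cfsg.Agent.Odc.Defs

/-! Odd operator groups: dihedral configurations in `2`-groups, I -/

set_option autoImplicit false

namespace CF.Odc.Dd
open Subgroup CF.BG
open scoped commutatorElement Pointwise

universe u
variable {Γ : Type u} [Group Γ] {T : Subgroup Γ} {z a b c u v y ρ : Γ} {C : Set Γ}

theorem inv_sq (h : a * a = 1) : a⁻¹ = a := inv_eq_of_mul_eq_one_right h

theorem comm_sq (ha : a * a = 1) (hc : c * c = 1) (h : a * c * (a * c) = 1) : a * c = c * a := by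
  have := inv_sq h
  rw [mul_inv_rev, inv_sq ha, inv_sq hc] at this
  exact this.symm

theorem dich (aa : ∀ a ∈ C, a * a = 1) (cl : ∀ a ∈ C, ∀ c ∈ C, c * a * c⁻¹ ∈ C)
    (X : ∀ a ∈ C, ∀ c ∈ C, a * c = c * a → c = a ∨ c = a * z) (k : ℕ) :
    ∀ a ∈ C, ∀ c ∈ C, (a * c) ^ (2 ^ k) = 1 →
      a * c = 1 ∨ a * c = z ∨ ∃ n : ℕ, (a * c) ^ n * (a * c) ^ n = z := by
  induction k with
  | zero => intro a _ c _ h; exact .inl (by simpa using h)
  | succ k ih =>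
    intro a ha c hc h
    have e : a * (c * a * c⁻¹) = a * c * (a * c) := by rw [inv_sq (aa c hc)]; group
    rcases ih a ha _ (cl a ha c hc) (by rw [e, ← sq, ← pow_mul, ← pow_succ']; exact h) with
      h1 | h1 | ⟨n, h1⟩
    · rw [e] at h1
      rcases X a ha c hc (comm_sq (aa a ha) (aa c hc) h1) with rfl | rfl
      · exact .inl (aa _ ha)
      · exact .inr (.inl (by rw [← mul_assoc, aa a ha, one_mul]))
    · exact .inr (.inr ⟨1, by simpa [e] using h1⟩)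
    · exact .inr (.inr ⟨2 * n, by rw [pow_mul, sq]; rwa [e] at h1⟩)

theorem pow_cl (aa : ∀ a ∈ C, a * a = 1) (cl : ∀ a ∈ C, ∀ c ∈ C, c * a * c⁻¹ ∈ C)
    (ha : a ∈ C) (hc : c ∈ C) : ∀ n : ℕ, a * (a * c) ^ n ∈ C
  | 0 => by simpa using ha
  | 1 => by rwa [pow_one, ← mul_assoc, aa a ha, one_mul]
  | n + 2 => by
    have := cl _ (cl _ (pow_cl aa cl ha hc n) a ha) c hc
    rw [inv_sq (aa a ha), inv_sq (aa c hc), ← mul_assoc a a, aa a ha, one_mul] at this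
    have e : a * (a * c) ^ (n + 2) = c * ((a * c) ^ n * a) * c := by
      rw [pow_succ', pow_succ]
      calc a * (a * c * ((a * c) ^ n * (a * c))) = a * a * (c * ((a * c) ^ n * a) * c) := by
            simp only [mul_assoc]
        _ = _ := by rw [aa a ha, one_mul]
    rwa [e]

theorem inv_l (ha : a * a = 1) (hc : c * c = 1) (n : ℕ) :
    a * (a * c) ^ n * a⁻¹ = ((a * c) ^ n)⁻¹ := by
  rw [← conj_pow, ← inv_pow, mul_inv_rev, inv_sq hc, ← mul_assoc a a, ha, one_mul]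

theorem inv_r (ha : a * a = 1) (hc : c * c = 1) (n : ℕ) :
    c * (a * c) ^ n * c⁻¹ = ((a * c) ^ n)⁻¹ := by
  rw [← conj_pow, ← inv_pow, mul_inv_rev, inv_sq hc, inv_sq ha, mul_assoc, mul_assoc, hc, mul_one]

/-- a class of involutions with the exclusion property -/
structure Fc (T : Subgroup Γ) (z : Γ) (C : Set Γ) : Prop where
  p2 : ∀ t ∈ T, ∃ k : ℕ, t ^ (2 ^ k) = 1
  zT : z ∈ T
  z1 : z ≠ 1
  zz : z * z = 1
  sub : ∀ a ∈ C, a ∈ T
  aa : ∀ a ∈ C, a * a = 1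
  az : ∀ a ∈ C, a * z = z * a
  cl : ∀ s ∈ T, s * z = z * s → ∀ a ∈ C, s * a * s⁻¹ ∈ C
  X : ∀ a ∈ C, ∀ c ∈ C, a * c = c * a → c = a ∨ c = a * z
  ns : ∀ a ∈ C, ∀ y ∈ T, y * z = z * y → y * a = a * y → y * y ≠ z

namespace Fc
variable (h : Fc T z C)
include h

theorem cl' : ∀ a ∈ C, ∀ c ∈ C, c * a * c⁻¹ ∈ C :=
  fun a ha c hc => h.cl c (h.sub c hc) (h.az c hc) a ha

theorem dich (ha : a ∈ C) (hc : c ∈ C) :
    a * c = 1 ∨ a * c = z ∨ ∃ n : ℕ, (a * c) ^ n * (a * c) ^ n = z := by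
  obtain ⟨k, hk⟩ := h.p2 _ (T.mul_mem (h.sub a ha) (h.sub c hc))
  exact Dd.dich h.aa h.cl' h.X k a ha c hc hk

theorem of_cent (ha : a ∈ C) (hb : b ∈ C) (hc : c ∈ C) (e : b * c * a = a * (b * c)) :
    b * c = 1 ∨ b * c = z := by
  rcases h.dich hb hc with h1 | h1 | ⟨n, h1⟩
  · exact .inl h1
  · exact .inr h1
  · refine absurd h1 (h.ns a ha _ (T.pow_mem (T.mul_mem (h.sub b hb) (h.sub c hc)) n) ?_ ?_)
    · exact (Commute.pow_left (Commute.mul_left (h.az b hb) (h.az c hc)) n)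
    · exact (Commute.pow_left e n)

theorem of_sq (ha : a ∈ C) (hc : c ∈ C) (e : a * c * (a * c) = 1) : a * c = 1 ∨ a * c = z := by
  rcases h.X a ha c hc (comm_sq (h.aa a ha) (h.aa c hc) e) with rfl | rfl
  · exact .inl (h.aa _ ha)
  · exact .inr (by rw [← mul_assoc, h.aa a ha, one_mul])

theorem inv_eq (hy : y * y = z) : y⁻¹ = y * z :=
  inv_eq_of_mul_eq_one_right (by rw [← mul_assoc, hy, h.zz])

theorem uniq (ha : a ∈ C) (hy : y * y = z) (hv : v * v = z) (iy : a * y * a⁻¹ = y⁻¹)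
    (iv : a * v * a⁻¹ = v⁻¹) (cy : a * y ∈ C) (cv : a * v ∈ C) : v = y ∨ v = y⁻¹ := by
  have yz : y * z = z * y := by rw [← hy, mul_assoc]
  have vz : v * z = z * v := by rw [← hv, mul_assoc]
  have e : a * y * (a * v) = y⁻¹ * v := by
    rw [← iy, inv_sq (h.aa a ha)]; group
  have e2 : y⁻¹ * v * a = a * (y⁻¹ * v) := by
    have : a * (y⁻¹ * v) * a⁻¹ = y⁻¹ * v := by
      calc a * (y⁻¹ * v) * a⁻¹ = (a * y * a⁻¹)⁻¹ * (a * v * a⁻¹) := by group
        _ = y * (z * v) := by rw [iy, iv, inv_inv, h.inv_eq hv, vz]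
        _ = _ := by rw [h.inv_eq hy, mul_assoc]
    calc y⁻¹ * v * a = a * (y⁻¹ * v) * a⁻¹ * a := by rw [this]
      _ = _ := by group
  rcases h.of_cent ha cy cv (by rw [e, e2]) with h1 | h1
  · rw [e, inv_mul_eq_one] at h1; exact .inl h1.symm
  · rw [e, inv_mul_eq_iff_eq_mul, ← h.inv_eq hy] at h1; exact .inr h1

theorem conj (φ : Γ ≃* Γ) (hφ : ∀ x, φ x ∈ T ↔ x ∈ T) : Fc T (φ z) (φ '' C) where
  p2 := h.p2
  zT := (hφ z).mpr h.zT
  z1 := fun e => h.z1 (φ.map_eq_one_iff.mp e)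
  zz := by rw [← map_mul, h.zz, map_one]
  sub := by rintro _ ⟨a, ha, rfl⟩; exact (hφ a).mpr (h.sub a ha)
  aa := by rintro _ ⟨a, ha, rfl⟩; rw [← map_mul, h.aa a ha, map_one]
  az := by rintro _ ⟨a, ha, rfl⟩; rw [← map_mul, h.az a ha, map_mul]
  cl := by
    rintro s hs e _ ⟨a, ha, rfl⟩
    obtain ⟨s, rfl⟩ := φ.surjective s
    rw [← map_mul, ← map_mul, φ.apply_eq_iff_eq] at e
    exact ⟨_, h.cl s ((hφ s).mp hs) e a ha, by simp⟩
  X := by
    rintro _ ⟨a, ha, rfl⟩ _ ⟨c, hc, rfl⟩ e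
    rw [← map_mul, ← map_mul, φ.apply_eq_iff_eq] at e
    rcases h.X a ha c hc e with rfl | rfl
    · exact .inl rfl
    · exact .inr (map_mul _ _ _)
  ns := by
    rintro _ ⟨a, ha, rfl⟩ s hs e e'
    obtain ⟨s, rfl⟩ := φ.surjective s
    rw [← map_mul, ← map_mul, φ.apply_eq_iff_eq] at e e'
    rw [← map_mul, ne_eq, φ.apply_eq_iff_eq]
    exact h.ns a ha s ((hφ s).mp hs) e e'

end Fc

/-- the class together with the rotation `ρ` -/
structure Fr (T : Subgroup Γ) (z : Γ) (C : Set Γ) (ρ : Γ) : Prop extends Fc T z C where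
  ne : C.Nonempty
  rr : ρ * ρ = z
  inv : ∀ a ∈ C, a * ρ * a⁻¹ = ρ⁻¹
  rc : ∀ a ∈ C, a * ρ ∈ C

theorem Fc.fr (h : Fc T z C) (hu : u ∈ C) (hv : v ∈ C) (e : u * v = z * (v * u)) :
    Fr T z C (u * v) := by
  have uu := h.aa u hu
  have vv := h.aa v hv
  have rr : u * v * (u * v) = z := by
    calc u * v * (u * v) = z * (v * u) * (u * v) := by rw [← e]
      _ = z * v * (u * u) * v := by group
      _ = z := by rw [uu, mul_one, mul_assoc, vv, mul_one]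
  have iu : u * (u * v) * u⁻¹ = (u * v)⁻¹ := by simpa using inv_l uu vv 1
  have cu : u * (u * v) ∈ C := by rwa [← mul_assoc, uu, one_mul]
  have key : ∀ a ∈ C, a * (u * v) * a⁻¹ = (u * v)⁻¹ ∧ a * (u * v) ∈ C := by
    intro a ha
    have aa := h.aa a ha
    rcases h.dich hu ha with h1 | h1 | ⟨n, h1⟩
    · rw [← inv_sq uu, inv_mul_eq_one] at h1
      subst h1; exact ⟨iu, cu⟩
    · rw [← inv_sq uu, inv_mul_eq_iff_eq_mul] at h1
      have zr : z * (u * v) = u * v * z := (Commute.mul_left (h.az u hu) (h.az v hv)).symm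
      subst h1
      refine ⟨?_, ?_⟩
      · calc u * z * (u * v) * (u * z)⁻¹ = u * (z * (u * v)) * z⁻¹ * u⁻¹ := by group
          _ = u * (u * v) * u⁻¹ := by rw [zr]; group
          _ = _ := iu
      · have := h.cl' v hv u hu
        rw [e, inv_sq uu, mul_assoc, mul_assoc, uu, mul_one] at this
        rwa [h.az u hu, mul_assoc, ← mul_assoc u u, uu, one_mul]
    · have c1 := pow_cl h.aa h.cl' hu ha n
      have c2 := pow_cl h.aa h.cl' hu ha (n + 1)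
      rw [pow_succ', ← mul_assoc, ← mul_assoc, uu, one_mul] at c2
      have i2 := inv_r uu aa n
      rcases h.uniq hu rr h1 iu (inv_l uu aa n) cu c1 with h2 | h2
      · rw [← h2]; exact ⟨i2, c2⟩
      · rw [h2] at i2 c2
        refine ⟨by rw [← inv_inj, ← i2, conj_inv], ?_⟩
        have := h.cl' _ c2 a ha
        rwa [mul_assoc, i2, inv_inv] at this
  exact { h with
    ne := ⟨u, hu⟩
    rr := rr
    inv := fun a ha => (key a ha).1
    rc := fun a ha => (key a ha).2 }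

namespace Fr
variable (h : Fr T z C ρ)
include h

theorem rT : ρ ∈ T := by
  obtain ⟨a, ha⟩ := h.ne
  simpa using T.mul_mem (T.inv_mem (h.sub a ha)) (h.sub _ (h.rc a ha))

theorem rz : ρ * z = z * ρ := by rw [← h.rr, mul_assoc]

theorem ne_inv : ρ ≠ ρ⁻¹ := fun e => h.z1 (by rw [← h.rr]; nth_rewrite 1 [e]; simp)

theorem uq (ha : a ∈ C) (hv : v * v = z) (iv : a * v * a⁻¹ = v⁻¹) (cv : a * v ∈ C) :
    v = ρ ∨ v = ρ⁻¹ := h.uniq ha h.rr hv (h.inv a ha) iv (h.rc a ha) cv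

theorem nrm {s : Γ} (hs : s ∈ T) (e : s * z = z * s) : s * ρ * s⁻¹ = ρ ∨ s * ρ * s⁻¹ = ρ⁻¹ := by
  obtain ⟨a, ha⟩ := h.ne
  refine h.uq (h.cl s hs e a ha) ?_ ?_ ?_
  · calc s * ρ * s⁻¹ * (s * ρ * s⁻¹) = s * (ρ * ρ) * s⁻¹ := by group
      _ = z := by rw [h.rr, e]; group
  · calc s * a * s⁻¹ * (s * ρ * s⁻¹) * (s * a * s⁻¹)⁻¹ = s * (a * ρ * a⁻¹) * s⁻¹ := by group
      _ = _ := by rw [h.inv a ha]; group
  · have := h.cl s hs e _ (h.rc a ha)
    rwa [show s * a * s⁻¹ * (s * ρ * s⁻¹) = s * (a * ρ) * s⁻¹ by group]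

/-- a product of two class elements inverted by a centralizer of `ρ` is `1` or `z` -/
theorem cyc (ha : a ∈ C) (hc : c ∈ C) (i : b * (a * c) * b⁻¹ = (a * c)⁻¹) (e : b * ρ * b⁻¹ = ρ) :
    a * c = 1 ∨ a * c = z := by
  rcases h.dich ha hc with h1 | h1 | ⟨n, h1⟩
  · exact .inl h1
  · exact .inr h1
  · have i2 : b * (a * c) ^ n * b⁻¹ = ((a * c) ^ n)⁻¹ := by rw [← conj_pow, i, inv_pow]
    rcases h.uq ha h1 (inv_l (h.aa a ha) (h.aa c hc) n) (pow_cl h.aa h.cl' ha hc n) with h2 | h2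
    · rw [h2, e] at i2; exact absurd i2 h.ne_inv
    · rw [h2, inv_inv, ← conj_inv, e] at i2; exact absurd i2.symm h.ne_inv

theorem conj (φ : Γ ≃* Γ) (hφ : ∀ x, φ x ∈ T ↔ x ∈ T) : Fr T (φ z) (φ '' C) (φ ρ) :=
  { h.toFc.conj φ hφ with
    ne := h.ne.image _
    rr := by rw [← map_mul, h.rr]
    inv := by rintro _ ⟨a, ha, rfl⟩; rw [← map_inv, ← map_mul, ← map_mul, h.inv a ha, map_inv]
    rc := by rintro _ ⟨a, ha, rfl⟩; exact ⟨_, h.rc a ha, map_mul _ _ _⟩ }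

theorem cjn {n : Γ} (hn : n ∈ 𝐍 T) :
    Fr T (n * z * n⁻¹) ((fun x => n * x * n⁻¹) '' C) (n * ρ * n⁻¹) :=
  h.conj (MulAut.conj n) fun x => ((mem_normalizer_iff.mp hn) x).symm

theorem cjt {n : Γ} (hn : n ∈ T) :
    Fr T (n * z * n⁻¹) ((fun x => n * x * n⁻¹) '' C) (n * ρ * n⁻¹) := h.cjn (le_norm_self T hn)

end Fr

end CF.Odc.Dd
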