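import Cfsg.Agent.Odc.D1

/-! Odd operator groups: dihedral configurations in `2`-groups, II -/

set_option autoImplicit false

namespace CF.Odc.Dd
open Subgroup CF.BG
open scoped commutatorElement Pointwise

universe u
variable {Γ : Type u} [Group Γ] {T : Subgroup Γ} {z w a b c r s : Γ} {C D : Set Γ}

theorem cj_iff : a * b * a⁻¹ = b ↔ a * b = b * a := mul_inv_eq_iff_eq_mul

theorem s3 (p2 : ∀ t ∈ T, ∃ k : ℕ, t ^ (2 ^ k) = 1) (zz : z * z = 1) (ww : w * w = 1)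
    (zw : z * w = w * z) (ha : a ∈ T) (hb : b ∈ T) (a1 : a * z * a⁻¹ = z)
    (a2 : a * w * a⁻¹ = z * w) (b1 : b * w * b⁻¹ = w) (b2 : b * z * b⁻¹ = z * w) : z = w := by
  have e1 : a * b * z * (a * b)⁻¹ = w := by
    calc a * b * z * (a * b)⁻¹ = a * (b * z * b⁻¹) * a⁻¹ := by group
      _ = a * z * a⁻¹ * (a * w * a⁻¹) := by rw [b2]; group
      _ = w := by rw [a1, a2, ← mul_assoc, zz, one_mul]
  have e2 : a * b * w * (a * b)⁻¹ = z * w := by
    calc a * b * w * (a * b)⁻¹ = a * (b * w * b⁻¹) * a⁻¹ := by group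
      _ = _ := by rw [b1, a2]
  obtain ⟨k, hk⟩ := p2 _ (T.mul_mem ha hb)
  generalize a * b = f at e1 e2 hk
  have e3 : f ^ 3 ∈ 𝐂₁ z := by
    rw [mem_cent1, ← cj_iff]
    calc f ^ 3 * z * (f ^ 3)⁻¹ = f * (f * (f * z * f⁻¹) * f⁻¹) * f⁻¹ := by
          simp only [pow_succ, pow_zero, one_mul, mul_inv_rev, mul_assoc]
      _ = f * (z * w) * f⁻¹ := by rw [e1, e2]
      _ = f * z * f⁻¹ * (f * w * f⁻¹) := by group
      _ = z := by rw [e1, e2, zw, ← mul_assoc, ww, one_mul]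
  have e4 : f ∈ zpowers (f ^ 3) := mem_zpowers_pow_iff.mpr
    (Nat.Coprime.coprime_dvd_right (orderOf_dvd_of_pow_eq_one hk)
      (Nat.Coprime.pow_right k (by norm_num)))
  have e5 := mem_cent1.mp ((zpowers_le.mpr e3) e4)
  rw [← e1, e5]; group

section comm
variable (h : Fr T z C r) (k : Fr T w D s) (ne : z ≠ w) (zw : z * w = w * z)
include h k zw

theorem half (e : w * r * w⁻¹ = r) : z * s * z⁻¹ = s := by
  have e' : r * w = w * r := (cj_iff.mp e).symm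
  rw [← h.rr]
  rcases k.nrm h.rT e' with h1 | h1
  · calc r * r * s * (r * r)⁻¹ = r * (r * s * r⁻¹) * r⁻¹ := by group
      _ = s := by rw [h1, h1]
  · calc r * r * s * (r * r)⁻¹ = r * (r * s * r⁻¹) * r⁻¹ := by group
      _ = s := by rw [h1, conj_inv.symm, h1, inv_inv]

omit k in
theorem swap_of_inv (ww : w * w = 1) (e : w * r * w⁻¹ = r⁻¹) : r * w * r⁻¹ = z * w := by
  have : w * r⁻¹ * w⁻¹ = r := by rw [← conj_inv, e, inv_inv]
  calc r * w * r⁻¹ = r * (w * r⁻¹ * w⁻¹) * w := by group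
    _ = z * w := by rw [this, h.rr]

include ne

theorem cent_r : w * r * w⁻¹ = r := by
  rcases h.nrm k.zT zw.symm with h1 | h1
  · exact h1
  rcases k.nrm h.zT zw with h2 | h2
  · exact half k h zw.symm h2
  · exact absurd (s3 h.p2 h.zz k.zz zw h.rT k.rT (cj_iff.mpr h.rz) (swap_of_inv h zw k.zz h1)
      (cj_iff.mpr k.rz) (zw ▸ swap_of_inv k zw.symm h.zz h2)) ne

theorem rw_comm : r * w = w * r := (cj_iff.mp (cent_r h k ne zw)).symm

theorem rs_comm : r * s = s * r := by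
  rcases k.nrm h.rT (rw_comm h k ne zw) with h1 | h1
  · exact cj_iff.mp h1
  rcases h.nrm k.rT (rw_comm k h ne.symm zw.symm) with h2 | h2
  · exact (cj_iff.mp h2).symm
  · exfalso
    rw [k.inv_eq k.rr, mul_inv_eq_iff_eq_mul] at h1
    rw [h.inv_eq h.rr, mul_inv_eq_iff_eq_mul] at h2
    apply ne
    have e1 : r * s = w * (s * r) := by rw [h1, k.rz, mul_assoc]
    have e2 : s * r = z * (r * s) := by rw [h2, h.rz, mul_assoc]
    rw [e2, ← mul_assoc, eq_comm, mul_eq_right, mul_eq_one_iff_eq_inv, inv_sq h.zz] at e1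
    exact e1.symm

theorem cent_s (ha : a ∈ C) (e : a * w = w * a) : a * s * a⁻¹ = s := by
  refine (k.nrm (h.sub a ha) e).resolve_right fun h1 => ?_
  have hc := h.cl s k.rT (rw_comm k h ne.symm zw.symm) a ha
  have e1 : a * (s * a * s⁻¹) = w := by
    calc a * (s * a * s⁻¹) = a * s * a⁻¹ * s⁻¹ := by rw [inv_sq (h.aa a ha)]; group
      _ = w := by rw [h1, ← mul_inv_rev, k.rr, inv_sq k.zz]
  rcases h.of_sq ha hc (by rw [e1, k.zz]) with h2 | h2
  · exact k.z1 (e1 ▸ h2)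
  · exact ne (h2 ▸ e1)

theorem swap (ha : a ∈ C) (e : a * w ≠ w * a) : a * w * a⁻¹ = z * w := by
  have hc := h.cl w k.zT zw.symm a ha
  have iw := inv_sq k.zz
  have ia := inv_sq (h.aa a ha)
  have i : w * (a * (w * a * w⁻¹)) * w⁻¹ = (a * (w * a * w⁻¹))⁻¹ := by
    calc w * (a * (w * a * w⁻¹)) * w⁻¹ = w * a * w * a * (w * w)⁻¹ := by group
      _ = w * a⁻¹ * w⁻¹ * a⁻¹ := by rw [k.zz, ia, iw, inv_one, mul_one]
      _ = _ := by group
  rcases h.cyc ha hc i (cent_r h k ne zw) with h1 | h1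
  · refine absurd ?_ e
    rw [← mul_assoc, mul_inv_eq_one] at h1
    calc a * w = a * (a * (w * a)) := by
          rw [h1]
      _ = w * a := by rw [← mul_assoc, h.aa a ha, one_mul]
  · rw [← h1, ia]; group

theorem cent_w (ha : a ∈ C) : a * w = w * a := by
  by_contra e
  have e1 := swap h k ne zw ha e
  have k3 := k.cjt (h.sub a ha)
  rw [e1] at k3
  have ne3 : w ≠ z * w := fun e => h.z1 (by simpa using e.symm)
  have c3 : w * (z * w) = z * w * w := by rw [← mul_assoc, ← zw]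
  have ss := rs_comm k k3 ne3 c3
  have sz := rw_comm k h ne.symm zw.symm
  have hc := h.cl s⁻¹ (T.inv_mem k.rT) (Commute.inv_left sz) a ha
  have ia := inv_sq (h.aa a ha)
  have t1 : s⁻¹ * (a * s * a⁻¹) * (s⁻¹ * (a * s * a⁻¹)) = z := by
    have := (Commute.inv_left ss).eq
    calc s⁻¹ * (a * s * a⁻¹) * (s⁻¹ * (a * s * a⁻¹))
        = s⁻¹ * (a * s * a⁻¹ * s⁻¹) * (a * s * a⁻¹) := by group
      _ = s⁻¹ * (s⁻¹ * (a * s * a⁻¹)) * (a * s * a⁻¹) := by rw [this]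
      _ = (s * s)⁻¹ * (a * s * a⁻¹ * (a * s * a⁻¹)) := by group
      _ = z := by rw [k.rr, k3.rr, inv_sq k.zz, zw, ← mul_assoc, k.zz, one_mul]
  have t0 : s⁻¹ * (a * s * a⁻¹) = s⁻¹ * a * s⁻¹⁻¹ * a := by rw [ia]; group
  have t2 := h.uq hc t1 (by simpa [t0] using inv_l (h.aa _ hc) (h.aa a ha) 1)
    (by rwa [t0, ← mul_assoc, h.aa _ hc, one_mul])
  obtain ⟨b, hb⟩ := k.ne
  by_cases eb : b * z = z * b
  · have b1 := cent_s k h ne.symm zw.symm hb eb
    have b2 := cent_s k k3 ne3 c3 hb (Commute.mul_right eb (k.az b hb))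
    have b3 : b * (s⁻¹ * (a * s * a⁻¹)) * b⁻¹ = s⁻¹ * (a * s * a⁻¹) := by
      rcases t2 with t | t
      · rw [t, b1]
      · rw [t, ← conj_inv, b1]
    have b4 : b * (s⁻¹ * (a * s * a⁻¹)) * b⁻¹ = (b * s * b⁻¹)⁻¹ * (b * (a * s * a⁻¹) * b⁻¹) := by
      group
    rw [b4, b2, k.inv b hb, mul_left_inj, inv_inv] at b3
    exact k.ne_inv b3
  · exact ne (s3 h.p2 h.zz k.zz zw (h.sub a ha) (k.sub b hb) (cj_iff.mpr (h.az a ha)) e1
      (cj_iff.mpr (k.az b hb)) (zw ▸ swap k h ne.symm zw.symm hb eb))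

theorem cent_s' (ha : a ∈ C) : a * s * a⁻¹ = s := cent_s h k ne zw ha (cent_w h k ne zw ha)

theorem cls_comm (ha : a ∈ C) (hc : c ∈ D) : a * c = c * a := by
  have ia := inv_sq (h.aa a ha)
  have ic := inv_sq (k.aa c hc)
  have e1 := h.cyc ha (h.cl c (k.sub c hc) (cent_w k h ne.symm zw.symm hc) a ha) (b := c)
    (by simpa only [sq, mul_assoc, ic] using inv_r (h.aa a ha) (k.aa c hc) 2)
    (cent_s' k h ne.symm zw.symm hc)
  have e2 := k.cyc hc (k.cl a (h.sub a ha) (cent_w h k ne zw ha) c hc) (b := a)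
    (by simpa only [sq, mul_assoc, ia] using inv_r (k.aa c hc) (h.aa a ha) 2) (cent_s' h k ne zw ha)
  have e3 : c * (a * c * a⁻¹) = (a * (c * a * c⁻¹))⁻¹ := by
    simp only [mul_inv_rev, ia, ic, mul_assoc]
  refine comm_sq (h.aa a ha) (k.aa c hc) ?_
  have e4 : a * c * (a * c) = a * (c * a * c⁻¹) := by rw [ic]; group
  rw [e4]
  refine e1.resolve_right fun e => ?_
  rw [e3, e, inv_sq h.zz] at e2
  exact e2.elim h.z1 ne

end comm

end CF.Odc.Dd
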