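import Cfsg.Agent.Odc.D2

/-! Odd operator groups: dihedral configurations in `2`-groups, III -/

set_option autoImplicit false

namespace CF.Odc.Dd
open Subgroup CF.BG
open scoped commutatorElement Pointwise

universe u
variable {Γ : Type u} [Group Γ] {G A T Y : Subgroup Γ} {z w a b c r s u u' g : Γ} {C D : Set Γ}

theorem cj_sq (h : a * a = 1) (n : Γ) : n * a * n⁻¹ * (n * a * n⁻¹) = 1 := by
  calc n * a * n⁻¹ * (n * a * n⁻¹) = n * (a * a) * n⁻¹ := by group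
    _ = 1 := by rw [h]; group

section nc
variable (h : Fr T z C r) (k : Fr T w D s) (q1 : z * w * (z * w) ≠ 1)
  (q2 : z * w * (z * w) * (z * w * (z * w)) = 1)
include h k q1 q2

theorem nc_aux (ha : a ∈ C) : w * (a * w * a⁻¹) = a * w * a⁻¹ * w ∧ w ≠ a * w * a⁻¹ ∧
    w * (z * w * z⁻¹) = z * w * z⁻¹ * w ∧ w ≠ z * w * z⁻¹ ∧
    w * (a * (z * w * z⁻¹) * a⁻¹) = a * (z * w * z⁻¹) * a⁻¹ * w ∧ w ≠ a * (z * w * z⁻¹) * a⁻¹ := by
  have iz := inv_sq h.zz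
  have iw := inv_sq k.zz
  have ia := inv_sq (h.aa a ha)
  have h3 := h.cjt k.zT
  have e3 : z * (w * z * w⁻¹) = z * w * (z * w) := by rw [iw]; group
  have c3 : z * (w * z * w⁻¹) = w * z * w⁻¹ * z := comm_sq h.zz h3.zz (by rw [e3, q2])
  have n3 : z ≠ w * z * w⁻¹ := fun e => q1 (by rw [← e3, ← e, h.zz])
  have ha' : w * a * w⁻¹ ∈ (fun x => w * x * w⁻¹) '' C := ⟨a, ha, rfl⟩
  have c1 := cls_comm h h3 n3 c3 ha ha'
  have r1 := cent_s' h3 h n3.symm c3.symm ha'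
  have r2 := cent_r h h3 n3 c3
  have a3 := cent_w h h3 n3 c3 ha
  have d0 : a * w * a⁻¹ * w = a * (w * a * w⁻¹) := by rw [ia, iw]; group
  have d1 : a * w * a⁻¹ * w = w * (a * w * a⁻¹) := comm_sq (cj_sq k.zz a) k.zz (by
    rw [d0]
    calc a * (w * a * w⁻¹) * (a * (w * a * w⁻¹))
        = a * (w * a * w⁻¹ * a) * (w * a * w⁻¹) := by group
      _ = a * a * (w * a * w⁻¹ * (w * a * w⁻¹)) := by rw [← c1]; group
      _ = 1 := by rw [h.aa a ha, cj_sq (h.aa a ha), mul_one])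
  have di : a * (w * a * w⁻¹) * r * (a * (w * a * w⁻¹))⁻¹ = r⁻¹ := by
    calc a * (w * a * w⁻¹) * r * (a * (w * a * w⁻¹))⁻¹
        = a * (w * a * w⁻¹ * r * (w * a * w⁻¹)⁻¹) * a⁻¹ := by group
      _ = _ := by rw [r1, h.inv a ha]
  generalize hζ : z * w * (z * w) = ζ at q1 q2 e3
  have iζ := inv_sq q2
  have e4 : z * w * z⁻¹ = ζ * w := by
    rw [← hζ, iz, mul_assoc (z * w), mul_assoc z w w, k.zz, mul_one]
  have wζ : w * ζ = ζ * w := by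
    rw [← e4, ← iζ, ← hζ]; simp only [mul_inv_rev, iz, iw, ← mul_assoc, k.zz, one_mul]
  have aζ : a * ζ * a⁻¹ = ζ := cj_iff.mpr (e3 ▸ Commute.mul_right (h.az a ha) a3)
  have ζr : ζ * r * ζ⁻¹ = r := by
    calc ζ * r * ζ⁻¹ = z * (w * z * w⁻¹ * r * (w * z * w⁻¹)⁻¹) * z⁻¹ := by rw [← e3]; group
      _ = r := by rw [r2, ← h.rz]; group
  have e7 : a * (ζ * w) * a⁻¹ = ζ * (a * w * a⁻¹) := by
    calc a * (ζ * w) * a⁻¹ = a * ζ * a⁻¹ * (a * w * a⁻¹) := by group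
      _ = _ := by rw [aζ]
  rw [e4, e7]
  refine ⟨d1.symm, fun e => ?_, by rw [← mul_assoc, wζ], fun e => q1 (by simpa using e.symm),
    (Commute.mul_right wζ d1.symm), fun e => ?_⟩
  · rw [← d0, ← e, k.zz, one_mul, inv_one, mul_one] at di
    exact h.ne_inv di
  · have : a * w * a⁻¹ * w = ζ := by
      rw [← inv_mul_eq_iff_eq_mul, iζ] at e
      rw [← e, mul_assoc, k.zz, mul_one]
    rw [← d0, this, ζr] at di
    exact h.ne_inv di

theorem nc4 : False := by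
  obtain ⟨a, ha⟩ := h.ne
  obtain ⟨c, hc⟩ := k.ne
  have iz := inv_sq h.zz
  have e0 : w * z * (w * z) = (z * w * (z * w))⁻¹ := by
    simp only [mul_inv_rev, iz, inv_sq k.zz]
  obtain ⟨f1, f2, -⟩ := nc_aux k h (by rwa [e0, ne_eq, inv_eq_one])
    (by rw [e0, ← mul_inv_rev, q2, inv_one]) hc
  obtain ⟨g1, g2, g3, g4, g5, g6⟩ := nc_aux h k q1 q2 ha
  have aT := h.sub a ha
  have a1 := cent_w h (h.cjt (k.sub c hc)) f2 f1 ha
  have k4 := k.cjt h.zT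
  have s1 := cent_s' (k.cjt aT) k g2.symm g1.symm ⟨c, hc, rfl⟩
  have s2 := cent_s' k4 k g4.symm g3.symm ⟨c, hc, rfl⟩
  have s3 := cent_s' (k4.cjt aT) k g6.symm g5.symm ⟨_, ⟨c, hc, rfl⟩, rfl⟩
  have e1 : c * (z * c * z⁻¹) = c * z * c⁻¹ * z := by rw [iz, inv_sq (k.aa c hc)]; group
  have e2 : a * (c * (z * c * z⁻¹)) * a⁻¹ = c * (z * c * z⁻¹) :=
    cj_iff.mpr (e1 ▸ Commute.mul_right a1 (h.az a ha))
  have e3 : c = a * c * a⁻¹ * (a * (z * c * z⁻¹) * a⁻¹) * (z * c * z⁻¹)⁻¹ := by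
    rw [eq_mul_inv_iff_mul_eq, ← e2]; group
  have e4 : c * s = s * c := by
    rw [e3]
    exact Commute.mul_left (Commute.mul_left (cj_iff.mp s1) (cj_iff.mp s3))
      (Commute.inv_left (cj_iff.mp s2))
  exact k.ne_inv ((cj_iff.mpr e4).symm.trans (k.inv c hc))

end nc

theorem all_comm (h : Fr T z C r) (k : Fr T w D s) : z * w = w * z := by
  obtain ⟨n, hn⟩ := h.p2 _ (T.mul_mem h.zT k.zT)
  induction n generalizing w D s with
  | zero => exact comm_sq h.zz k.zz (by rw [pow_zero, pow_one] at hn; rw [hn, mul_one])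
  | succ n ih =>
    have e : z * (w * z * w⁻¹) = z * w * (z * w) := by rw [inv_sq k.zz]; group
    have h3 := h.cjt k.zT
    have c := ih h3 (by rw [e, ← sq, ← pow_mul, ← pow_succ']; exact hn)
    by_contra ne
    refine nc4 h k (fun q => ne (comm_sq h.zz k.zz q)) ?_
    rw [← e]
    calc z * (w * z * w⁻¹) * (z * (w * z * w⁻¹))
        = z * (w * z * w⁻¹ * z) * (w * z * w⁻¹) := by group
      _ = z * z * (w * z * w⁻¹ * (w * z * w⁻¹)) := by rw [← c]; group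
      _ = 1 := by rw [h.zz, h3.zz, mul_one]

theorem fr_false [Finite Γ] (f : Fp G A) (hT : T ≤ G) (n : A ≤ 𝐍 T) (h : Fr T z C r) : False := by
  classical
  obtain ⟨u, hu⟩ := h.ne
  let S : Set Γ := {w | ∃ D s, Fr T w D s}
  have ch : ∀ w : S, ∃ D s, Fr T w D s := fun w => w.2
  choose D ρ hD using ch
  let R : Set Γ := {x | ∃ w : S, w.1 ≠ z ∧ x = ρ w}
  have c0 : R ⊆ 𝐂 (closure R) := by
    rintro _ ⟨w, hw, rfl⟩
    refine cent_symm (K := zpowers (ρ w)) ((closure_le _).mpr ?_) (mem_zpowers _)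
    rintro _ ⟨v, hv, rfl⟩
    rw [cent_zpowers, SetLike.mem_coe, mem_cent1]
    by_cases e : v = w
    · rw [e]
    · exact rs_comm (hD v) (hD w) (fun e' => e (Subtype.ext e')) (all_comm (hD v) (hD w))
  have c1 : ∀ x ∈ closure R, ∀ y ∈ closure R, x * y = y * x := fun x hx y hy =>
    ((closure_le _).mpr c0 hy) x hx
  have c2 : closure R ≤ T ⊓ 𝐂₁ z ⊓ 𝐂₁ u := by
    refine (closure_le _).mpr ?_
    rintro _ ⟨w, hw, rfl⟩
    have c := all_comm h (hD w)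
    exact ⟨⟨(hD w).rT, mem_cent1.mpr (rw_comm (hD w) h hw c.symm)⟩,
      mem_cent1.mpr (cj_iff.mp (cent_s' h (hD w) hw.symm c hu)).symm⟩
  let Y : Subgroup Γ :=
    { carrier := {x | ∃ y ∈ closure R, y * y = x}
      one_mem' := ⟨1, one_mem _, mul_one 1⟩
      mul_mem' := by
        rintro _ _ ⟨x, hx, rfl⟩ ⟨y, hy, rfl⟩
        refine ⟨x * y, mul_mem hx hy, ?_⟩
        calc x * y * (x * y) = x * (y * x) * y := by group
          _ = _ := by rw [← c1 x hx y hy]; group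
      inv_mem' := by
        rintro _ ⟨x, hx, rfl⟩
        exact ⟨x⁻¹, inv_mem hx, (mul_inv_rev _ _).symm⟩ }
  obtain ⟨y, hy, e⟩ : z ∈ Y := f.pf0 (s := S)
    (fun _ ⟨_, _, a⟩ _ ⟨_, _, b⟩ => all_comm a b) (fun _ ⟨_, _, a⟩ => hT a.zT) (fun _ ⟨_, _, a⟩ => a.zz)
    (fun a ha _ ⟨_, _, b⟩ => ⟨_, _, b.cjn (n ha)⟩) ⟨C, r, h⟩
    fun w hw ne => ⟨ρ ⟨w, hw⟩, subset_closure ⟨⟨w, hw⟩, ne, rfl⟩, (hD ⟨w, hw⟩).rr⟩
  obtain ⟨⟨y1, y2⟩, y3⟩ := c2 hy
  exact h.ns u hu y y1 (mem_cent1.mp y2) (mem_cent1.mp y3) e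

end CF.Odc.Dd
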