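import Cfsg.Agent.Odc.N1

/-! Rank one blocks over the Baumann subgroup -/

set_option autoImplicit false

namespace CF.Odc
open Cfsg Subgroup CF.Loc CF.FF
open CF.PLocal (maxAb thompson_le le_thompson upT)
open scoped commutatorElement MatrixGroups

universe u
variable {Γ : Type u} [Group Γ] {G A T M P Q S X Y K B L V L' Q' N : Subgroup Γ} {g k m n : Γ}
  {F : Type} [Field F] {ρ ρ' : Γ → SL(2, F)} {ψ ψ' : Γ → Fin 2 → F}

/-- pull back along a map that is multiplicative on `L` and injective on `V` -/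
theorem natOn_comap {H : Type*} [Group H] {σ : H → SL(2, F)} {χ : H → Fin 2 → F} {V' L' A' : Subgroup H}
    (h : NatOn F V' L' A' σ χ) (f : Γ → H) (hf : ∀ g ∈ L, ∀ k ∈ L, f (g * k) = f g * f k) (n : L ≤ 𝐍(V))
    (hV : V ≤ L) (hA : A ≤ L) (e1 : ∀ y, y ∈ V' ↔ ∃ v ∈ V, f v = y) (e2 : ∀ y, y ∈ L' ↔ ∃ v ∈ L, f v = y)
    (e3 : ∀ y, y ∈ A' ↔ ∃ v ∈ A, f v = y) (i : ∀ v ∈ V, ∀ w ∈ V, f v = f w → v = w) :
    NatOn F V L A (fun g => σ (f g)) fun g => χ (f g) := by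
  have m1 : ∀ v ∈ V, f v ∈ V' := fun v hv => (e1 _).2 ⟨v, hv, rfl⟩
  have m2 : ∀ v ∈ L, f v ∈ L' := fun v hv => (e2 _).2 ⟨v, hv, rfl⟩
  have m3 : ∀ v ∈ A, f v ∈ A' := fun v hv => (e3 _).2 ⟨v, hv, rfl⟩
  have cj : ∀ g ∈ L, ∀ v ∈ V, f (g * v * g⁻¹) = f g * f v * (f g)⁻¹ := fun g hg v hv => by
    rw [← hf g hg v (hV hv), eq_mul_inv_of_mul_eq (hf _ (mul_mem (mul_mem hg (hV hv))
      (inv_mem hg)) g hg).symm, inv_mul_cancel_right]
  have c : ∀ g ∈ L, ∀ v ∈ V, f g * f v = f v * f g ↔ g * v = v * g := fun g hg v hv => by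
    rw [← mul_inv_eq_iff_eq_mul, ← mul_inv_eq_iff_eq_mul, ← cj g hg v hv]
    exact ⟨i _ (conj_mem_of_mem_normalizer (n hg) hv) v hv, fun e => by rw [e]⟩
  have c' : ∀ {X : Subgroup Γ} {X' : Subgroup H}, X ≤ L → (∀ y, y ∈ X' ↔ ∃ v ∈ X, f v = y) → ∀ v ∈ V,
      f v ∈ 𝐂(X') ↔ v ∈ 𝐂(X) := fun l e v hv => ⟨fun a x hx => (c x (l hx) v hv).1 (a _ ((e _).2 ⟨x, hx, rfl⟩)),
    fun a y hy => by obtain ⟨x, hx, rfl⟩ := (e y).1 hy; exact (c x (l hx) v hv).2 (a x hx)⟩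
  refine ⟨n, hA, fun g hg k hk => by rw [hf g hg k hk, h.ρmul _ (m2 g hg) _ (m2 k hk)], fun g hg k hk => by
    rw [hf g (hV hg) k (hV hk), h.ψmul _ (m1 g hg) _ (m1 k hk)], fun m => ?_, fun z => ?_,
    fun v hv => (h.ker _ (m1 v hv)).trans (c' le_rfl e2 v hv), fun g hg v hv => by
      rw [cj g hg v hv, h.equiv _ (m2 g hg) _ (m1 v hv)], fun a ha => h.up _ (m3 a ha), fun t => ?_,
    fun v hv => (c' hA e3 v hv).symm.trans (h.fix _ (m1 v hv)), fun a ha e v hv =>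
      ((c a (hA ha) v hv).1 (h.infker _ (m3 a ha) e _ (m1 v hv)).symm).symm⟩
  · obtain ⟨g, hg, e⟩ := h.ρsurj m
    obtain ⟨g, hg', rfl⟩ := (e2 g).1 hg
    exact ⟨g, hg', e⟩
  · obtain ⟨g, hg, e⟩ := h.ψsurj z
    obtain ⟨g, hg', rfl⟩ := (e1 g).1 hg
    exact ⟨g, hg', e⟩
  · obtain ⟨g, hg, e⟩ := h.up' t
    obtain ⟨g, hg', rfl⟩ := (e3 g).1 hg
    exact ⟨g, hg', e⟩

/-- the module of a block -/
abbrev UU (L Q : Subgroup Γ) : Subgroup Γ := ⁅Q, 𝐑[2](L)⁆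

theorem cj_UU (g : Γ) (L Q : Subgroup Γ) : cj[g] (UU L Q) = UU (cj[g] L) (cj[g] Q) := by
  rw [cj_commutator, cj_pResidualOf]

/-- a rank one block over the `2`-group `B` -/
structure Nd (F : Type) [Field F] (B L Q : Subgroup Γ) (ρ : Γ → SL(2, F)) (ψ : Γ → Fin 2 → F) : Prop where
  syl : IsSyl 2 B L
  le : Q ≤ B
  nQ : L ≤ 𝐍(Q)
  nat : NatOn F 𝛀[2](Q) L B ρ ψ
  cent : B ⊓ 𝐂(𝛀[2](Q)) ≤ Q
  blk : UU L Q ≤ 𝛀[2](Q)

namespace Nd
variable (h : Nd F B L Q ρ ψ)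
include h

theorem BL : B ≤ L := h.syl.le

theorem QL : Q ≤ L := h.le.trans h.BL

theorem pB : IsPGroup 2 B := h.syl.isPGroup

theorem pQ : IsPGroup 2 Q := h.pB.to_le h.le

theorem UQ : UU L Q ≤ Q := h.blk.trans (omegaOneCenter_le 2 Q)

theorem UB : UU L Q ≤ B := h.UQ.trans h.le

theorem UC : UU L Q ≤ 𝐂(Q) := h.blk.trans (omegaOneCenter_le_centralizer 2 Q)

theorem QC : Q ≤ 𝐂(UU L Q) := le_centralizer_comm.1 h.UC

theorem ea : IsElementaryAbelian 2 (UU L Q) := isElemAb_of_le (isElemAb_omegaOneCenter 2 Q) h.blk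

theorem nU : L ≤ 𝐍(UU L Q) := le_normalizer_commutator h.nQ (le_normalizer_pResidualOf 2 L)

theorem UU_eq : ⁅UU L Q, 𝐑[2](L)⁆ = UU L Q := commutator_commutator_pResidualOf h.pQ h.nQ

protected theorem cj (hn : n ∈ 𝐍(B)) :
    Nd F B (cj[n] L) (cj[n] Q) (fun x => ρ (n⁻¹ * x * n)) fun x => ψ (n⁻¹ * x * n) := by
  have e : ∀ X : Subgroup Γ, ∀ y, y ∈ X ↔ ∃ v ∈ cj[n] X, n⁻¹ * v * n = y := fun X y =>
    ⟨fun a => ⟨_, conj_mem_cj n a, by group⟩, fun ⟨v, a, b⟩ => b ▸ mem_cj.1 a⟩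
  have eB := cj_eq_self hn
  have nQ : cj[n] L ≤ 𝐍(cj[n] Q) := cj_normalizer n Q ▸ cj_mono n h.nQ
  refine ⟨by simpa only [eB] using h.syl.cj n, eB ▸ cj_mono n h.le, nQ, natOn_comap h.nat _ (fun g _ k _ => by group)
    (nQ.trans (normalizer_le_normalizer_omegaOneCenter 2 _)) ((omegaOneCenter_le 2 _).trans (cj_mono n h.QL))
    (eB ▸ cj_mono n h.BL) (cj_omegaOneCenter (p := 2) n Q ▸ e _) (e _) (by simpa only [eB] using e B)
    fun v _ w _ a => by simpa using a, ?_, ?_⟩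
  · have := cj_mono n h.cent
    rwa [cj_inf, eB, cj_centralizer, cj_omegaOneCenter] at this
  · rw [← cj_UU, ← cj_omegaOneCenter]; exact cj_mono n h.blk

/-- squares and commutators in `Q` are centralized by `O²(L)` -/
theorem sq {x : Γ} (hx : x ∈ Q) : x * x ∈ 𝐂(𝐑[2](L)) := fun r hr => by
  have u := commutator_mem_commutator hx hr
  have a := h.UC u x hx
  have b := h.ea.2 _ u
  generalize e : ⁅x, r⁆ = c at a b
  have e1 : x * r = c * (r * x) := by rw [← e, commutatorElement_def]; group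
  rw [pow_two] at b
  calc r * (x * x) = c * c * r * (x * x) := by rw [b, one_mul]
    _ = c * (x * r) * x := by rw [e1]; group
    _ = x * (x * r) := by rw [← mul_assoc c, ← a, e1]; group
    _ = _ := by group

theorem comm_le : ⁅Q, Q⁆ ≤ 𝐂(𝐑[2](L)) := commutator_le.2 fun x hx y hy => by
  have := mul_mem (mul_mem (h.sq hx) (h.sq (mul_mem (inv_mem hx) hy))) (h.sq (inv_mem hy))
  rwa [show x * x * (x⁻¹ * y * (x⁻¹ * y)) * (y⁻¹ * y⁻¹) = ⁅x, y⁆ by rw [commutatorElement_def]; group] at this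

variable [Finite Γ]

theorem two : (2 : F) = 0 := by exact_mod_cast h.nat.sec.cast h.pB

theorem res_sup : 𝐑[2](L) ⊔ B = L := h.syl.pResidualOf_sup

theorem cent_L {x : Γ} (h1 : x ∈ 𝐂(𝐑[2](L))) (h2 : x ∈ 𝐂(B)) : x ∈ 𝐂(L) := by
  rw [← h.res_sup, centralizer_sup]; exact ⟨h1, h2⟩

/-- overgroups of the module in `Q` -/
theorem norm_of (h1 : UU L Q ≤ Y) (h2 : Y ≤ Q) (h3 : B ≤ 𝐍(Y)) : L ≤ 𝐍(Y) :=
  h.res_sup.ge.trans (sup_le (le_normalizer_of_commutator_le le_rfl ((commutator_mono h2 le_rfl).trans h1)) h3)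

theorem U_sup : UU L Q ⊔ (𝛀[2](Q) ⊓ 𝐂(L)) = 𝛀[2](Q) :=
  (h.nat.sec.irred (le_normalizer_sup h.nU h.nat.sec.norm₀) le_sup_right (sup_le h.blk inf_le_left)).resolve_left
    fun e => h.nat.sec.not_res_le h.syl ((commutator_mono (omegaOneCenter_le 2 Q) le_rfl).trans (le_sup_left.trans e.le))

theorem natU : NatOn F (UU L Q) L B ρ ψ := by
  have n := h.nat
  have l := h.blk
  refine ⟨h.nU, n.le, n.ρmul, fun v hv w hw => n.ψmul v (l hv) w (l hw), n.ρsurj, fun z => ?_, fun v hv => n.ker v (l hv),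
    fun g hg v hv => n.equiv g hg v (l hv), n.up, n.up', fun v hv => n.fix v (l hv),
    fun a ha e => centralizer_anti l (n.infker a ha e)⟩
  obtain ⟨v, hv, rfl⟩ := n.ψsurj z
  obtain ⟨u, hu, c, hc, rfl⟩ := (mem_sup_of_le_normalizer ((inf_le_left.trans ((omegaOneCenter_le 2 Q).trans h.QL)).trans
    h.nU)).1 (h.U_sup.ge hv)
  exact ⟨u, hu, by rw [n.ψmul u (l hu) c hc.1, (n.ker c hc.1).2 hc.2, add_zero]⟩

theorem cent_U : B ⊓ 𝐂(UU L Q) = Q := le_antisymm (fun b hb => h.cent ⟨hb.1, h.nat.infker b hb.1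
  (h.natU.ρ_eq_one_of_cent (h.BL hb.1) hb.2)⟩) (le_inf h.le h.QC)

theorem mem_Q {b : Γ} (hb : b ∈ B) (c : b ∈ 𝐂(UU L Q)) : b ∈ Q := h.cent_U.le ⟨hb, c⟩

theorem le_Q (hX : X ≤ B) (c : X ≤ 𝐂(UU L Q)) : X ≤ Q := (le_inf hX c).trans h.cent_U.le

theorem ne : ¬ B ≤ Q := fun e => h.natU.not_le_cent' (e.trans h.QC)

theorem card_B : Nat.card B = Nat.card F * Nat.card Q := by rw [h.natU.card_A, h.cent_U]

theorem not_res : ¬ 𝐑[2](L) ≤ 𝐂(UU L Q) := not_res_le h.syl h.natU.not_le_cent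

/-- elements outside `Q` have the same fixed points as `B` -/
theorem mem_cent {a v : Γ} (ha : a ∈ B) (h1 : a ∉ Q) (hv : v ∈ UU L Q) (hc : ⁅a, v⁆ ∈ 𝐂(𝐑[2](L))) : v ∈ 𝐂(B) :=
  h.natU.mem_cent ha (fun e => h1 (h.mem_Q ha e)) hv (h.cent_L hc (h.natU.comm_mem_cent ha hv))

theorem mem_cent' {a v : Γ} (ha : a ∈ B) (h1 : a ∉ Q) (hv : v ∈ UU L Q) (hc : a * v = v * a) : v ∈ 𝐂(B) :=
  h.mem_cent ha h1 hv (by rw [cm_one hc]; exact one_mem _)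

/-- the replacement of a maximal elementary abelian subgroup -/
theorem repl (hA : A ∈ maxAb 2 B) (e : A ⊔ Q = B) : (A ⊓ Q) ⊔ UU L Q ∈ maxAb 2 B := by
  have n : A ⊓ Q ≤ 𝐂(UU L Q) := inf_le_right.trans h.QC
  refine CF.PLocal.mem_maxAb_of_card_le hA (sup_le (inf_le_left.trans hA.1) h.UB) (isElemAb_sup
    (isElemAb_of_le hA.2.1 inf_le_left) h.ea n) ?_
  have h1 := card_sup_mul_card_inf (n.trans (centralizer_le_normalizer _))
  have h2 := card_sup_mul_card_inf ((hA.1.trans h.BL).trans h.nQ)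
  rw [e, h.card_B, mul_right_comm] at h2
  rw [h.natU.card_V, ← mul_assoc, mul_comm _ (Nat.card F), Nat.eq_of_mul_eq_mul_right Nat.card_pos h2] at h1
  refine Nat.le_of_mul_le_mul_right (h1.ge.trans (Nat.mul_le_mul_left _ (card_le_card_of_le ?_))) Nat.card_pos
  refine le_inf inf_le_right ?_
  rw [← e, centralizer_sup]
  exact le_inf ((inf_le_left.trans inf_le_left).trans (isElemAb_le_centralizer hA.2.1)) (inf_le_right.trans h.UC)

section Pair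
variable (h' : Nd F B L' Q' ρ' ψ') (c : ¬ UU L' Q' ≤ Q)
include h' c

theorem symm : ¬ UU L Q ≤ Q' := fun e => c (h.le_Q h'.UB (le_centralizer_comm.1 (e.trans h'.QC)))

theorem inf_le : UU L' Q' ⊓ Q ≤ 𝐂(B) := fun v hv => by
  obtain ⟨a, ha, a0⟩ := SetLike.not_le_iff_exists.1 (h.symm h' c)
  exact h'.mem_cent' (h.UB ha) a0 hv.1 (h.QC hv.2 a ha)

theorem sup_eq : UU L' Q' ⊔ Q = B := by
  have h1 := card_sup_mul_card_inf ((h'.UB.trans h.BL).trans h.nQ)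
  have h2 := card_le_card_of_le (le_inf inf_le_left (h.inf_le h' c))
  refine eq_of_le_of_card_le (sup_le h'.UB h.le) (Nat.le_of_mul_le_mul_right ?_ (Nat.card_pos (α := ↥(UU L' Q' ⊓ Q))))
  rw [h1, h.card_B, h'.natU.card_V, mul_right_comm]
  exact Nat.mul_le_mul_right _ (Nat.mul_le_mul_left _ h2)

theorem Q_eq : Q = UU L Q ⊔ (Q' ⊓ Q) := by
  rw [← sup_inf_of_le_normalizer_left ((h'.le.trans h.BL).trans h.nU) h.UQ, h'.sup_eq h (h.symm h' c), inf_eq_right.2 h.le]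

/-- involutions lie in one of the two cores -/
theorem inv_mem {t : Γ} (ht : t ∈ B) (e : t * t = 1) : t ∈ Q ∨ t ∈ Q' := by
  obtain ⟨a, ha, q, hq, rfl⟩ := (mem_sup_of_le_normalizer ((h.le.trans h'.BL).trans h'.nU)).1 ((h.sup_eq h' c).ge ht)
  obtain ⟨u, hu, d, hd, rfl⟩ := (mem_sup_of_le_normalizer ((inf_le_right.trans h.QL).trans h.nU)).1 ((h.Q_eq h' c).le hq)
  by_cases a0 : a ∈ Q
  · exact .inl (mul_mem a0 hq)
  refine .inr (mul_mem (h'.UQ ha) (mul_mem (h'.mem_Q (h.UB hu) (centralizer_anti h'.UB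
    (h.mem_cent (h'.UB ha) a0 hu ?_))) hd.1))
  have e1 := h'.QC hd.1 a ha
  have e2 := h.QC hd.2 u hu
  have e3 := h'.ea.2 a ha
  have e4 := h.ea.2 u hu
  rw [pow_two] at e3 e4
  have : ⁅a, u⁆ = (d * d)⁻¹ := by
    rw [commutatorElement_def, inv_eq_of_mul_eq_one_right e3, inv_eq_of_mul_eq_one_right e4, eq_inv_iff_mul_eq_one, ← e]
    calc a * u * a * u * (d * d) = a * u * a * (u * d) * d := by group
      _ = a * u * (a * d) * (u * d) := by nth_rw 1 [e2]; group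
      _ = _ := by rw [e1]; group
  exact this ▸ Subgroup.inv_mem _ (h.sq hd.2)

theorem ea_le (hX : X ≤ B) (e : IsElementaryAbelian 2 X) : X ≤ Q ∨ X ≤ Q' := by
  by_contra k
  obtain ⟨k1, k2⟩ := not_or.1 k
  obtain ⟨a, ha, a0⟩ := SetLike.not_le_iff_exists.1 k1
  obtain ⟨b, hb, b0⟩ := SetLike.not_le_iff_exists.1 k2
  have i : ∀ x ∈ X, x ∈ Q ∨ x ∈ Q' := fun x hx => h.inv_mem h' c (hX hx) (pow_two x ▸ e.2 x hx)
  have a1 := (i a ha).resolve_left a0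
  have b1 := (i b hb).resolve_right b0
  exact (i _ (mul_mem ha hb)).elim (fun k => a0 ((Q.mul_mem_cancel_right b1).1 k)) fun k => b0 ((Q'.mul_mem_cancel_left a1).1 k)

end Pair

end Nd

local notation "𝐌" => MM G T
local notation "𝐙" => Cfsg.omegaOneCenter 2 T
local notation "𝐁₀" => Cfsg.baumannSubgroupOf 2 S

/-- `N` normalizes no bad subgroup of the Baumann subgroup -/
structure NB (G T S N : Subgroup Γ) : Prop where
  le : 𝐁[2](S) ≤ N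
  norm : N ≤ 𝐍(𝐁[2](S))
  nT : N ≤ 𝐍(T)
  nG : N ≤ 𝐍(G)
  nb : ∀ Y, 𝛀[2](T) ≤ Y → Y ≤ 𝐁[2](S) → N ≤ 𝐍(Y) → ¬ Bad G (MM G T) Y

variable [Finite Γ]

/-- the selected subgroup with a block over its Baumann subgroup -/
structure SN (G A T S L Q : Subgroup Γ) (F : Type) [Field F] (ρ : Γ → SL(2, F)) (ψ : Γ → Fin 2 → F) : Prop
    extends Sel G A T S where
  nd : Nd F 𝐁[2](S) L Q ρ ψ
  LG : L ≤ G
  bad : ∃ g ∈ L, ¬ Gd (MM G T) 𝛀[2](T) g
  com : ∀ s ∈ S, cj[s] (UU L Q) ≤ 𝐂(UU L Q)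

theorem Sel.nb_of_lt (h : Sel G A T S) (h1 : 𝐁₀ ≤ N) (h2 : N ≤ 𝐍(𝐁₀)) (h3 : N ≤ T) (c : Nat.card S < Nat.card N) :
    NB G T S N := ⟨h1, h2, h3.trans le_normalizer, (h3.trans h.syl.le).trans le_normalizer, fun _ a b n => h.not_bad_of_lt a (b.trans h1) h1 h3 c n⟩

theorem Sel.nb_lt (h : Sel G A T S) (c : S ≠ T) : NB G T S (T ⊓ 𝐍(𝐁₀)) :=
  h.nb_of_lt (le_inf h.BT le_normalizer) inf_le_right inf_le_left (card_lt_card_of_lt
    ((lt_inf_normalizer h.pT (h.le.lt_of_ne c)).trans_le (inf_le_inf_left _ (norm_baumann 2 S))))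

theorem Sel.nb_eq (h : Sel G A T T) : NB G T T (T ⊔ A) :=
  ⟨h.BT.trans le_sup_left, (sup_le le_normalizer h.inv).trans (norm_baumann 2 T), sup_le le_normalizer h.inv,
    sup_le (h.syl.le.trans le_normalizer) h.fp.norm, fun _ a b n =>
    h.not_bad (BG.ne_bot_mono h.Z_ne a) (b.trans h.BT) (le_sup_left.trans n) (le_sup_right.trans n)⟩

theorem Sel.exists_nb (h : Sel G A T S) : ∃ N, NB G T S N := by
  by_cases e : S = T
  · subst e; exact ⟨_, h.nb_eq⟩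
  · exact ⟨_, h.nb_lt e⟩

namespace SN
variable (h : SN G A T S L Q F ρ ψ)
include h

theorem bad_of (h1 : 𝐙 ≤ Y) (h2 : L ≤ 𝐍(Y)) : Bad G 𝐌 Y :=
  let ⟨g, hg, c⟩ := h.bad; ⟨g, ⟨h.LG hg, h2 hg⟩, fun k => c (k.mono h1)⟩

theorem ZC (hX : X ≤ T) : 𝐙 ≤ 𝐂(X) := (omegaOneCenter_le_centralizer 2 T).trans (centralizer_anti hX)

theorem ZQ : 𝐙 ≤ Q := h.nd.le_Q h.ZB (h.ZC (h.nd.UB.trans h.BT))

theorem ZV : 𝐙 ≤ 𝛀[2](Q) := le_omegaOneCenter (isElemAb_omegaOneCenter 2 T) h.ZQ (h.ZC (h.nd.le.trans h.BT))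

theorem not_cent : ¬ 𝐙 ≤ 𝐂(L) := fun e =>
  let ⟨_, hg, c⟩ := h.bad; c (gd_of_cent (le_centralizer_comm.1 e hg))

/-- overgroups of `UZ` in `Q` are bad -/
theorem bad_of_le (h0 : 𝐙 ≤ Y) (h1 : UU L Q ≤ Y) (h2 : Y ≤ Q) (h3 : 𝐁₀ ≤ 𝐍(Y)) : Bad G 𝐌 Y :=
  h.bad_of h0 (h.nd.norm_of h1 h2 h3)

/-- existence of partners -/
theorem partner (k : NB G T S N) : ∃ n ∈ N, ¬ UU (cj[n] L) (cj[n] Q) ≤ Q := by
  by_contra c
  push Not at c
  have l : ncl (UU L Q) N ⊔ 𝐙 ≤ Q := sup_le (ncl_le_iff.2 fun n hn => cj_UU n L Q ▸ c n hn) h.ZQ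
  have n : N ≤ 𝐍(ncl (UU L Q) N ⊔ 𝐙) := le_normalizer_sup (le_normalizer_ncl _ _)
    (k.nT.trans (normalizer_le_normalizer_omegaOneCenter 2 T))
  exact k.nb _ le_sup_right (l.trans h.nd.le) n
    (h.bad_of_le le_sup_right ((le_ncl _ _).trans le_sup_left) l (k.le.trans n))

end SN

end CF.Odc
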