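import Cfsg.Agent.Odc.N2
import Cfsg.Agent.Odc.S3

/-! Rank one blocks over the field with two elements -/

set_option autoImplicit false

namespace CF.Odc
open Cfsg Subgroup CF.Loc CF.FF
open scoped commutatorElement MatrixGroups

universe u
variable {Γ : Type u} [Group Γ] {G A T S B L Q L' Q' E N : Subgroup Γ} {g m n x z u z' u' b : Γ}
  {F : Type} [Field F] {ρ : Γ → SL(2, F)} {ψ : Γ → Fin 2 → F}

theorem sl2_two : ∀ m k : SL(2, ZMod 2), m * m ≠ 1 → k * k ≠ 1 → k = m ∨ k = m * m := by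
  decide +kernel

theorem mem_zp2 (zz : z * z = 1) (h : x ∈ zpowers z) : x = 1 ∨ x = z := by
  obtain ⟨k, rfl⟩ := h
  have : z ^ (2 : ℤ) = 1 := by rw [zpow_two, zz]
  obtain ⟨i, rfl | rfl⟩ := Int.even_or_odd' k <;> simp [zpow_add, zpow_mul, this]

theorem mem_of_sq2 (o : (orderOf x).Coprime 2) (h : x * x ∈ E) : x ∈ E :=
  zpowers_le.2 (pow_two x ▸ h) (mem_zpowers_pow_iff.2 o.symm)

/-- a block over the field with two elements, with its module written out -/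
structure Tw (F : Type) [Field F] (B L Q : Subgroup Γ) (z u : Γ) : Prop where
  nd : ∃ ρ ψ, Nd F B L Q ρ ψ
  zU : z ∈ UU L Q
  uU : u ∈ UU L Q
  mU : ∀ v ∈ UU L Q, v = 1 ∨ v = z ∨ v = u ∨ v = u * z
  z1 : z ≠ 1
  zB : z ∈ 𝐂(B)
  uB : u ∉ 𝐂(B)
  UR : ∀ v ∈ UU L Q, v ∈ 𝐂(𝐑[2](L)) → v = 1
  dec : ∀ q ∈ Q, ∃ v ∈ UU L Q, ∃ c ∈ Q ⊓ 𝐂(𝐑[2](L)), q = v * c
  tr : ∀ v ∈ UU L Q, v ≠ 1 → ∃ g ∈ L, g * z * g⁻¹ = v

variable [Finite Γ]

theorem nd_ker (h : Nd F B L Q ρ ψ) (hg : g ∈ L) (e : ρ g = 1) : g ∈ 𝐂(UU L Q) := by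
  have n := h.natU
  have nV : L ≤ 𝐍(UU L Q ⊓ 𝐂(L)) := le_normalizer_inf h.nU (le_normalizer_centralizer le_normalizer)
  set K := L ⊓ secCent (UU L Q) (UU L Q ⊓ 𝐂(L))
  have s := h.syl.inf_of_le_normalizer (inf_le_left : K ≤ L)
    (le_normalizer_inf le_normalizer (le_normalizer_secCent h.nU nV))
  refine (s.pResidualOf_sup.ge.trans (sup_le ?_ fun b hb => n.infker b hb.1 (n.ρ_eq_one hb.2.1
    fun v hv => ?_))) ⟨hg, nV hg, fun v hv => ?_⟩
  · rw [← commutator_eq_bot_iff_le_centralizer', eq_bot_iff]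
    refine commutator_pResidualOf_le (fun v hv => ⟨1, by simpa using h.ea.2 v hv.1⟩)
      (le_secCent_iff.1 inf_le_right).2 (commutator_eq_bot_iff_le_centralizer'.2 (inf_le_left.trans
        (le_centralizer_comm.1 inf_le_right))).le (by simp) (by simp)
  · rw [← commutatorElement_inv]
    exact inv_mem (mem_inf.1 (hb.2.2.2 v hv)).2
  · rw [← commutatorElement_inv]
    exact inv_mem (mem_inf.2 ⟨mul_mem (n.conj_mem hg hv) (inv_mem hv), n.comm_mem hg e hv⟩)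

theorem nd_res (h : Nd F B L Q ρ ψ) (c : Nat.card F = 2) (hx : x ∈ L)
    (o : (orderOf x).Coprime 2) (x1 : x ∉ 𝐂(UU L Q)) :
    𝐑[2](L) ≤ zpowers x ⊔ (𝐑[2](L) ⊓ 𝐂(UU L Q)) := by
  have : Finite F := Nat.finite_of_card_ne_zero (by omega)
  have := Fintype.ofFinite F
  let e := (ZMod.ringEquivOfPrime F Nat.prime_two (by rw [← c, Nat.card_eq_fintype_card])).symm
  obtain ⟨σ, χ, n, k⟩ : ∃ σ χ, NatOn (ZMod 2) (UU L Q) L B σ χ ∧ ∀ g ∈ L, σ g = 1 → g ∈ 𝐂(UU L Q) :=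
    ⟨_, _, h.natU.map_field e, fun g hg q => nd_ker h hg (h.natU.ρ_eq_one hg fun v hv =>
      (h.natU.map_field e).comm_mem hg q hv)⟩
  have sq : ∀ g ∈ L, (orderOf g).Coprime 2 → g ∉ 𝐂(UU L Q) → σ g * σ g ≠ 1 := fun g hg o g1 q =>
    g1 (mem_of_sq2 o (k _ (mul_mem hg hg) (by rw [n.ρmul g hg g hg, q])))
  refine pResidualOf_le_iff.2 fun g hg og => ?_
  have gR := mem_pResidualOf hg og
  have xR := mem_pResidualOf hx o
  have key : ∀ y ∈ zpowers x, σ g = σ y → g ∈ zpowers x ⊔ (𝐑[2](L) ⊓ 𝐂(UU L Q)) := fun y hy q => by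
    have yL := zpowers_le.2 hx hy
    have : y⁻¹ * g ∈ 𝐑[2](L) ⊓ 𝐂(UU L Q) := mem_inf.2 ⟨mul_mem (inv_mem (zpowers_le.2 xR hy)) gR,
      k _ (mul_mem (inv_mem yL) hg) (by rw [n.ρmul _ (inv_mem yL) g hg, n.ρinv yL, q, inv_mul_cancel])⟩
    simpa using mul_mem (mem_sup_left hy) (mem_sup_right this)
  by_cases g1 : g ∈ 𝐂(UU L Q)
  · exact mem_sup_right ⟨gR, g1⟩
  rcases sl2_two _ _ (sq x hx o x1) (sq g hg og g1) with q | q
  · exact key x (mem_zpowers x) q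
  · exact key _ (mul_mem (mem_zpowers x) (mem_zpowers x)) (by rw [q, n.ρmul x hx x hx])

theorem exists_tw (h : Nd F B L Q ρ ψ) (c : Nat.card F = 2) : ∃ z u, Tw F B L Q z u := by
  obtain ⟨x, hx, o, x1⟩ : ∃ x ∈ L, (orderOf x).Coprime 2 ∧ x ∉ 𝐂(UU L Q) := by
    by_contra! k
    exact h.not_res (pResidualOf_le_iff.2 k)
  have r := nd_res h c hx o x1
  have xR := mem_pResidualOf hx o
  have od : Odd (orderOf x) := Nat.coprime_two_right.1 o
  have e : BG.Abelem 2 (UU L Q) := .of_isEA Nat.prime_two h.ea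
  have l := cm_le (h.nU hx)
  have e1 : UU L Q ≤ ⁅UU L Q, zpowers x⁆ := h.UU_eq.ge.trans ((commutator_mono le_rfl r).trans
    (commutator_sup_right_le (normalizer_commutator_ge_right _ _)
      (inf_le_right.trans (centralizer_le_normalizer_of_le l)) le_rfl
      ((commutator_eq_bot_iff_le_centralizer'.2 inf_le_right).le.trans bot_le)))
  have fx : ∀ v ∈ UU L Q, v ∈ centralizer {x} → v = 1 := fun v hv => cm_fix e (h.nU hx) od (e1 hv)
  have UR : ∀ v ∈ UU L Q, v ∈ 𝐂(𝐑[2](L)) → v = 1 := fun v hv k => fx v hv (BG.cent_le_cent1 xR k)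
  have c4 : Nat.card (UU L Q) = 4 := by
    rw [h.natU.card_V', c, BG.eq_bot_of_forall (H := UU L Q ⊓ 𝐂(L)) fun v hv =>
      fx v hv.1 (BG.cent_le_cent1 hx hv.2), card_bot]
    rfl
  have c2 : Nat.card ↥(UU L Q ⊓ 𝐂(B)) = 2 := by have := h.natU.card_V; rw [c] at this; omega
  obtain ⟨z, hz, z1⟩ := BG.exists_mem_ne_one (H := UU L Q ⊓ 𝐂(B)) (BG.one_lt_card.1 (by omega))
  have orb := (four_orb (h.nU hx) od fx c4.le hz.1 z1).2
  have uU := conj_mem_of_mem_normalizer (h.nU hx) hz.1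
  have u1 : x * z * x⁻¹ ≠ 1 := by simpa using z1
  have uz : x * z * x⁻¹ ≠ z := fun q => z1 (fx z hz.1 (BG.mem_cent1.2 (mul_inv_eq_iff_eq_mul.1 q).symm))
  have k0 : 𝐑[2](L) ⊓ 𝐂(UU L Q) ≤ 𝐂(Q) := by
    have s := h.syl.inf_of_le_normalizer (inf_le_left.trans (pResidualOf_le 2 L) : _ ⊓ 𝐂(UU L Q) ≤ L)
      (le_normalizer_inf (le_normalizer_pResidualOf 2 L) (le_normalizer_centralizer h.nU))
    refine s.pResidualOf_sup.ge.trans (sup_le ?_ fun k hk q hq => ?_)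
    · rw [← commutator_eq_bot_iff_le_centralizer', eq_bot_iff]
      exact commutator_pResidualOf_le (fun v hv => ⟨1, by simpa using h.ea.2 v hv⟩)
        (commutator_mono le_rfl inf_le_left) (commutator_eq_bot_iff_le_centralizer'.2 inf_le_right).le
        (by simp) (by simp)
    · exact commutatorElement_eq_one_iff_mul_comm.1 (UR _ (commutator_mem_commutator hq hk.2.1)
        (h.comm_le (commutator_mem_commutator hq (h.mem_Q hk.1 hk.2.2))))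
  refine ⟨z, _, ⟨_, _, h⟩, hz.1, uU, fun v hv => ?_, z1, hz.2, fun q => ?_, UR, fun q hq => ?_,
    fun v hv v1 => ?_⟩
  · rcases orb _ (mul_mem uU hz.1) with q | q | q | q
    · exact absurd ((eq_inv_of_mul_eq_one_left q).trans (inv1 e hz.1)) uz
    · exact absurd (by simpa using q) u1
    · exact absurd (by simpa using q) z1
    · rw [q]; exact orb v hv
  · exact absurd (three_le (mem_inf.2 ⟨uU, q⟩) hz u1 z1 uz) (by omega)
  · have := BG.comm_sup_inf_cent (zpowers_le.2 (h.nQ hx)) (odd_cop od (piG h.pQ)) (.inr (piG h.pQ).sol)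
    obtain ⟨v, hv, d, hd, rfl⟩ := (mem_sup_of_le_normalizer (inf_le_left.trans
      (normalizer_commutator_ge_left _ _))).1 (this.ge hq)
    refine ⟨v, commutator_mono le_rfl (zpowers_le.2 xR) hv, d, ⟨hd.1, centralizer_anti r ?_⟩, rfl⟩
    rw [centralizer_sup]
    exact ⟨hd.2, le_centralizer_comm.1 k0 hd.1⟩
  · rcases orb v hv with q | q | q | q
    · exact absurd q v1
    · exact ⟨1, one_mem L, by simp [q]⟩
    · exact ⟨x, hx, q.symm⟩
    · exact ⟨x * x, mul_mem hx hx, q.symm⟩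

namespace Tw
variable (h : Tw F B L Q z u)
include h

omit [Finite Γ]

theorem d : Nd F B L Q h.nd.choose h.nd.choose_spec.choose := h.nd.choose_spec.choose_spec

theorem sq {v : Γ} (hv : v ∈ UU L Q) : v * v = 1 := pow_two v ▸ h.d.ea.2 v hv

theorem zz : z * z = 1 := h.sq h.zU

theorem uu : u * u = 1 := h.sq h.uU

theorem zi : z⁻¹ = z := inv_eq_of_mul_eq_one_right h.zz

theorem ui : u⁻¹ = u := inv_eq_of_mul_eq_one_right h.uu

theorem u1 : u ≠ 1 := fun e => h.uB (e ▸ one_mem _)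

theorem uz : u ≠ z := fun e => h.uB (e ▸ h.zB)

theorem zc (hb : b ∈ B) : b * z = z * b := h.zB b hb

theorem zu : z * u = u * z := (h.zc (h.d.UB h.uU)).symm

theorem cent (c1 : b * z = z * b) (c : b * u = u * b) : b ∈ 𝐂(UU L Q) := fun v hv => by
  rcases h.mU v hv with rfl | rfl | rfl | rfl
  · simp
  · exact c1.symm
  · exact c.symm
  · rw [mul_assoc, ← c1, ← mul_assoc, ← c, mul_assoc]

theorem out {v : Γ} (hv : v ∈ UU L Q) (v1 : v ≠ 1) (vz : v ≠ z) : v = u ∨ v = u * z :=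
  ((h.mU v hv).resolve_left v1).resolve_left vz

theorem act' (n : b ∈ 𝐍(UU L Q)) (c : b * z = z * b) : b * u * b⁻¹ = u ∨ b * u * b⁻¹ = u * z :=
  h.out (conj_mem_of_mem_normalizer n h.uU) (by simpa using h.u1) fun e => h.uz (by
    rw [mul_inv_eq_iff_eq_mul, ← c] at e; exact mul_left_cancel e)

theorem act (hb : b ∈ B) : b * u * b⁻¹ = u ∨ b * u * b⁻¹ = u * z := h.act' (h.d.nU (h.d.BL hb)) (h.zc hb)

theorem le_of (h1 : z ∈ E) (h2 : u ∈ E) : UU L Q ≤ E := fun v hv => by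
  rcases h.mU v hv with rfl | rfl | rfl | rfl
  exacts [one_mem _, h1, h2, mul_mem h2 h1]

theorem commB : ⁅UU L Q, B⁆ ≤ zpowers z := by
  refine (le_secCent_iff.1 (?_ : UU L Q ≤ secCent B (zpowers z))).2.trans' (commutator_comm _ _).le
  have n : ∀ v ∈ UU L Q, v ∈ 𝐍(zpowers z) := fun v hv => centralizer_le_normalizer _
    (centralizer_anti (zpowers_le.2 h.zU) (isElemAb_le_centralizer h.d.ea hv))
  refine h.le_of ⟨n z h.zU, fun b hb => by rw [cm_one (h.zc hb)]; exact one_mem _⟩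
    ⟨n u h.uU, fun b hb => ?_⟩
  rcases h.act hb with e | e <;> rw [commutatorElement_def, e]
  · simp
  · rw [← h.zu]; simp

theorem nC : L ≤ 𝐍(Q ⊓ 𝐂(𝐑[2](L))) :=
  le_normalizer_inf h.d.nQ (le_normalizer_centralizer (le_normalizer_pResidualOf 2 L))

protected theorem cj (hn : n ∈ 𝐍(B)) : Tw F B (cj[n] L) (cj[n] Q) (n * z * n⁻¹) (n * u * n⁻¹) := by
  have eB := cj_eq_self hn
  refine ⟨⟨_, _, h.d.cj hn⟩, cj_UU n L Q ▸ conj_mem_cj n h.zU, cj_UU n L Q ▸ conj_mem_cj n h.uU,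
    ?_, by simpa using h.z1, ?_, ?_, ?_, ?_, ?_⟩
  · rw [← cj_UU]
    rintro _ ⟨v, hv, rfl⟩
    rcases h.mU v hv with rfl | rfl | rfl | rfl <;> simp
  · rw [← eB, ← cj_centralizer]; exact conj_mem_cj n h.zB
  · rw [← eB, ← cj_centralizer, conj_mem_cj_iff]; exact h.uB
  · rw [← cj_UU, ← cj_pResidualOf, ← cj_centralizer]
    rintro _ ⟨v, hv, rfl⟩ c
    rw [h.UR v hv (conj_mem_cj_iff.1 c), map_one]
  · rw [← cj_UU, ← cj_pResidualOf, ← cj_centralizer, ← cj_inf]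
    rintro _ ⟨q, hq, rfl⟩
    obtain ⟨v, hv, c, hc, rfl⟩ := h.dec q hq
    exact ⟨_, conj_mem_cj n hv, _, conj_mem_cj n hc, by simp⟩
  · rw [← cj_UU]
    rintro _ ⟨v, hv, rfl⟩ v1
    obtain ⟨g, hg, rfl⟩ := h.tr v hv fun e => v1 (by rw [e, map_one])
    exact ⟨_, conj_mem_cj n hg, by simp [mul_assoc]⟩

variable [Finite Γ]

theorem memQ (hb : b ∈ B) (c : b * u = u * b) : b ∈ Q := h.d.mem_Q hb (h.cent (h.zc hb) c)

theorem act1 (hb : b ∈ B) (c : b ∉ Q) : b * u * b⁻¹ = u * z :=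
  (h.act hb).resolve_left fun e => c (h.memQ hb (mul_inv_eq_iff_eq_mul.1 e))

theorem fixz (h1 : UU L Q ≤ E) (h2 : ⁅E, B⁆ ≤ zpowers z) (a : m ∈ 𝐍(B)) (c : m ∈ 𝐍(E)) :
    m * z * m⁻¹ = z := by
  obtain ⟨b, hb, b0⟩ := SetLike.not_le_iff_exists.1 h.d.ne
  have e : ⁅b, u⁆ = z := by rw [commutatorElement_def, h.act1 hb b0, ← h.zu]; simp
  refine (mem_zp2 h.zz ?_).resolve_left (by simpa using h.z1)
  nth_rewrite 2 [← e]
  rw [cm_conj]
  exact h2 (commutator_comm B E ▸ commutator_mem_commutator (conj_mem_of_mem_normalizer a hb)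
    (conj_mem_of_mem_normalizer c (h1 h.uU)))

theorem norm_of (c : b * z = z * b) (e : b * u * b⁻¹ = u ∨ b * u * b⁻¹ = u * z) : b ∈ 𝐍(UU L Q) := by
  refine mem_normalizer_of_cj_le (cj_le_iff.2 (h.le_of (mem_cj.2 ?_) (mem_cj.2 ?_)))
  · rw [inv_inv, c, mul_inv_cancel_right]; exact h.zU
  · rw [inv_inv]
    rcases e with e | e <;> rw [e]
    exacts [h.uU, mul_mem h.uU h.zU]

section Pair
variable (h' : Tw F B L' Q' z' u') (c : ¬ UU L' Q' ≤ Q)
include h' c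

theorem uQ : u' ∉ Q := fun e =>
  c (h'.le_of (h.memQ (h'.d.UB h'.zU) (h'.zc (h.d.UB h.uU)).symm) e)

theorem par' : u' * u = z * (u * u') := by
  rw [mul_inv_eq_iff_eq_mul.1 (h.act1 (h'.d.UB h'.uU) (h.uQ h' c)), ← h.zu, mul_assoc]

theorem zeq : z' = z := by
  have h1 := h.par' h' c
  rw [h'.par' h (h.d.symm h'.d c), ← mul_assoc, eq_comm, mul_eq_right] at h1
  rw [eq_inv_of_mul_eq_one_right h1, h.zi]

theorem par : u * u' = z * (u' * u) := h.zeq h' c ▸ h'.par' h (h.d.symm h'.d c)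

theorem CQ {a : Γ} (ha : a ∈ Q ⊓ 𝐂(𝐑[2](L))) : a ∈ Q' := by
  have h1 := mul_mem (conj_mem_of_mem_normalizer (h.nC (h.d.BL (h'.d.UB h'.uU))) ha) (inv_mem ha)
  rcases mem_zp2 h'.zz (h'.commB (commutator_mem_commutator h'.uU (h.d.le ha.1))) with e | e
  · exact h'.memQ (h.d.le ha.1) (commutatorElement_eq_one_iff_mul_comm.1 e).symm
  · rw [← commutatorElement_def, e, h.zeq h' c] at h1
    exact absurd (h.UR z h.zU h1.2) h.z1

end Pair

/-- the case of the full Sylow subgroup -/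
theorem false_of_inv (f : Fp G A) (hB : B ≤ G) (a : A ≤ N) (n1 : N ≤ 𝐍(B)) (n2 : N ≤ 𝐍(G)) (hg : g ∈ N)
    (c : ¬ UU (cj[g] L) (cj[g] Q) ≤ Q) : False := by
  refine h.z1 (h.UR z h.zU (f.pf0 (s := {y | ∃ n ∈ N, n * z * n⁻¹ = y}) ?_ ?_ ?_ ?_
    ⟨1, one_mem N, by simp⟩ ?_))
  · rintro _ ⟨n, hn, rfl⟩ _ ⟨k, hk, rfl⟩
    exact (h.cj (n1 hk)).zc ((h.cj (n1 hn)).d.UB (h.cj (n1 hn)).zU)
  · rintro _ ⟨n, hn, rfl⟩
    exact conj_mem_of_mem_normalizer (n2 hn) (hB (h.d.UB h.zU))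
  · rintro _ ⟨n, hn, rfl⟩
    exact (h.cj (n1 hn)).zz
  · rintro b hb _ ⟨n, hn, rfl⟩
    exact ⟨b * n, mul_mem (a hb) hn, by group⟩
  · rintro _ ⟨n, hn, rfl⟩ k
    have e := h.zeq (h.cj (n1 hg)) c
    have key : ∀ m ∈ N, m * z * m⁻¹ ≠ z → m * u * m⁻¹ ∈ Q := fun m hm q => by
      by_contra r
      exact q (h.zeq (h.cj (n1 hm)) fun l => r (l (h.cj (n1 hm)).uU))
    have e2 : z = ⁅u, g * u * g⁻¹⁆ := by
      rw [commutatorElement_def, h.par (h.cj (n1 hg)) c]; group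
    have := h.d.comm_le (commutator_mem_commutator (key n hn k) (key (n * g) (mul_mem hn hg) (by
      rwa [show n * g * z * (n * g)⁻¹ = n * (g * z * g⁻¹) * n⁻¹ by group, e])))
    rw [e2, cm_conj]
    convert this using 2
    group

end Tw

end CF.Odc
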